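import Cfsg.Agent.H58.SpecNine.Decomp

/-!
Reduction of lists of pieces of total half dimension at most four to at most two pieces.
-/

set_option autoImplicit false
set_option linter.unusedSectionVars false
set_option linter.style.haveILetI false

namespace Cfsg.Agent.H58.SpecNine

open Module QuadraticMap Orthogonal H53 Elusive

universe u v

/-- A semisimple element of order a multiple of `n` exists in `Ω₈⁻` with support of dimension at most `2 H`. -/
def Good (q H n : ℕ) : Prop :=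
  n ∣ 1 ∨
  (∃ a e b f, 1 ≤ a ∧ (e = 1 ∨ e = -1) ∧ 1 ≤ b ∧ (f = 1 ∨ f = -1) ∧ a + b ≤ H ∧
    (a + b < 4 ∨ e * f = -1) ∧ n ∣ Nat.lcm (tt q a e) (tt q b f)) ∨
  (∃ h e, 1 ≤ h ∧ (e = 1 ∨ e = -1) ∧ h ≤ H ∧ (h < 4 ∨ e = -1) ∧ n ∣ tt q h e / 2)

theorem Good.mono {q H n m : ℕ} (h : Good q H n) (hm : m ∣ n) : Good q H m := by
  rcases h with h | ⟨a, e, b, f, h1, h2, h3, h4, h5, h6, h7⟩ | ⟨a, e, h1, h2, h3, h4, h5⟩
  · exact Or.inl (hm.trans h)
  · exact Or.inr (Or.inl ⟨a, e, b, f, h1, h2, h3, h4, h5, h6, hm.trans h7⟩)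
  · exact Or.inr (Or.inr ⟨a, e, h1, h2, h3, h4, hm.trans h5⟩)

theorem good_single {q H n h : ℕ} {e : ℤ} (hh : 1 ≤ h) (he : e = 1 ∨ e = -1) (hH : h < H)
    (hn : n ∣ tt q h e) : Good q H n :=
  Or.inr (Or.inl ⟨h, e, 1, -e, hh, he, le_rfl, by omega, hH,
    Or.inr (by rcases he with rfl | rfl <;> decide), hn.trans (Nat.dvd_lcm_left _ _)⟩)

theorem tt_dvd_three (q : ℕ) {e : ℤ} (he : e = 1 ∨ e = -1) : tt q 1 e ∣ tt q 3 e := by
  unfold tt
  rcases he with rfl | rfl
  · rw [if_pos rfl, if_pos rfl, pow_one]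
    simpa using Nat.sub_one_dvd_pow_sub_one q 3
  · rw [if_neg (by decide), if_neg (by decide), pow_one]
    simpa using (show Odd 3 by decide).nat_add_dvd_pow_add_pow q 1

theorem tt_one_dvd_two {q : ℕ} {e : ℤ} (he : e = 1 ∨ e = -1) : tt q 1 e ∣ tt q 2 1 := by
  unfold tt
  rw [if_pos rfl, pow_one, show q ^ 2 - 1 = (q + 1) * (q - 1) from by simpa using Nat.sq_sub_sq q 1]
  rcases he with rfl | rfl
  · rw [if_pos rfl]; exact dvd_mul_left _ _
  · rw [if_neg (by decide)]; exact dvd_mul_right _ _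

theorem half_four {q : ℕ} (hq : Odd q) :
    tt q 4 1 / 2 ∣ Nat.lcm (tt q 2 1) (tt q 2 (-1)) := by
  set A := tt q 2 1 with hA
  set B := tt q 2 (-1) with hB
  have hq1 : 1 ≤ q ^ 2 := Nat.one_le_pow _ _ hq.pos
  have hprod : tt q 4 1 = A * B := by
    rw [hA, hB]
    unfold tt
    rw [if_pos rfl, if_pos rfl, if_neg (by decide), mul_comm, show q ^ 4 = (q ^ 2) ^ 2 by ring]
    simpa using Nat.sq_sub_sq (q ^ 2) 1
  have hAB : B = A + 2 := by
    rw [hA, hB]
    unfold tt
    rw [if_pos rfl, if_neg (by decide)]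
    omega
  have hg : Nat.gcd A B ∣ 2 :=
    (Nat.dvd_add_right (Nat.gcd_dvd_left A B)).1 (hAB ▸ Nat.gcd_dvd_right A B)
  have hL : A * B ∣ Nat.lcm A B * 2 := by
    conv_lhs => rw [← Nat.gcd_mul_lcm A B, mul_comm]
    exact Nat.mul_dvd_mul_left _ hg
  have h2 : 2 ∣ A * B := by
    rw [hA, hB]
    unfold tt
    rw [if_pos rfl]
    obtain ⟨k, hk⟩ := hq.pow (n := 2)
    exact dvd_mul_of_dvd_left ⟨k, by omega⟩ _
  obtain ⟨c, hc⟩ := h2
  rw [hc, mul_comm _ 2] at hL
  rw [hprod, hc, Nat.mul_div_cancel_left _ two_pos]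
  exact Nat.dvd_of_mul_dvd_mul_left two_pos hL

theorem good_half {q H n : ℕ} {e : ℤ} (hq : Odd q) (hH : 1 ≤ H) (hH4 : H ≤ 4) (he : e = 1 ∨ e = -1)
    (hn : n ∣ tt q H e / 2) : Good q H n := by
  by_cases h : H < 4 ∨ e = -1
  · exact Or.inr (Or.inr ⟨H, e, hH, he, le_rfl, h, hn⟩)
  · push Not at h
    obtain rfl : H = 4 := by omega
    obtain rfl : e = 1 := he.resolve_right h.2
    exact Or.inr (Or.inl ⟨2, 1, 2, -1, by omega, Or.inl rfl, by omega, Or.inr rfl, le_rfl,
      Or.inr rfl, hn.trans (half_four hq)⟩)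

theorem lcmT_perm {q : ℕ} {l m : List (ℕ × ℤ)} (h : l.Perm m) : lcmT q l = lcmT q m := by
  induction h with
  | nil => rfl
  | cons x _ ih => simp [lcmT, ih]
  | swap x y l => simp only [lcmT]; rw [← Nat.lcm_assoc, Nat.lcm_comm (tt q y.1 y.2), Nat.lcm_assoc]
  | trans _ _ ih1 ih2 => exact ih1.trans ih2

/-- At least two pieces can always be replaced by exactly two. -/
theorem good_list {q H n : ℕ} (hH4 : H ≤ 4) : ∀ (k : ℕ) (l : List (ℕ × ℤ)), l.length = k → Valid l →
    2 ≤ l.length → sumH l ≤ H → n ∣ lcmT q l → Good q H n := by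
  intro k
  induction k using Nat.strong_induction_on with
  | _ k ih =>
    intro l hk hl hl2 hs hn
    match l, hl, hl2, hs, hn, hk with
    | [(a, e), (b, f)], hl, _, hs, hn, _ =>
      obtain ⟨ha, he⟩ := hl (a, e) (by simp)
      obtain ⟨hb, hf⟩ := hl (b, f) (by simp)
      simp only [sumH, List.map_cons, List.map_nil, List.sum_cons, List.sum_nil, add_zero] at hs
      simp only [lcmT, Nat.lcm_one_right] at hn
      dsimp only at ha he hb hf
      by_cases hc : a + b < 4 ∨ e * f = -1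
      · exact Or.inr (Or.inl ⟨a, e, b, f, ha, he, hb, hf, hs, hc, hn⟩)
      push Not at hc
      obtain rfl : e = f := by
        rcases he with rfl | rfl <;> rcases hf with rfl | rfl <;> first | rfl | exact absurd rfl hc.2
      obtain ⟨rfl, rfl⟩ | ⟨rfl, rfl⟩ | ⟨rfl, rfl⟩ : a = 1 ∧ b = 3 ∨ a = 2 ∧ b = 2 ∨ a = 3 ∧ b = 1 := by omega
      · exact good_single (h := 3) (by omega) he (by omega) (hn.trans (Nat.lcm_dvd (tt_dvd_three q he) dvd_rfl))
      · exact good_single (h := 2) (by omega) he (by omega) (hn.trans (Nat.lcm_dvd dvd_rfl dvd_rfl))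
      · exact good_single (h := 3) (by omega) he (by omega) (hn.trans (Nat.lcm_dvd dvd_rfl (tt_dvd_three q he)))
    | c₁ :: c₂ :: c₃ :: r, hl, _, hs, hn, hk =>
      have h1 := (hl c₁ (by simp)).1
      have h2 := (hl c₂ (by simp)).1
      have h3 := (hl c₃ (by simp)).1
      have hlen : k = r.length + 3 := by simpa using hk.symm
      have main : ∀ a b c : ℕ × ℤ, (a :: b :: c :: r).Perm (c₁ :: c₂ :: c₃ :: r) → a.1 = 1 → b.1 = 1 →
          Good q H n := by
        intro a b c hp ha hb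
        have hl' : Valid (a :: b :: c :: r) := fun x hx => hl x (hp.subset hx)
        have hs' : sumH (a :: b :: c :: r) ≤ H := by
          have : sumH (a :: b :: c :: r) = sumH (c₁ :: c₂ :: c₃ :: r) := (hp.map Prod.fst).sum_eq
          omega
        have hn' : n ∣ lcmT q (a :: b :: c :: r) := by rwa [lcmT_perm hp]
        obtain ⟨-, hea⟩ := hl' a (by simp)
        obtain ⟨-, heb⟩ := hl' b (by simp)
        by_cases he : a.2 = b.2
        · obtain rfl : a = b := Prod.ext (ha.trans hb.symm) he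
          refine ih (r.length + 2) (by omega) (a :: c :: r) rfl
            (fun x hx => hl' x (by simp only [List.mem_cons] at hx ⊢; tauto)) (by simp) ?_ ?_
          · simp only [sumH, List.map_cons, List.sum_cons] at hs' ⊢; omega
          · refine hn'.trans ?_
            simp only [lcmT]
            exact Nat.lcm_dvd (Nat.dvd_lcm_left _ _) dvd_rfl
        · refine ih (r.length + 2) (by omega) ((2, 1) :: c :: r) rfl (fun x hx => ?_) (by simp) ?_ ?_
          · rcases List.mem_cons.1 hx with rfl | hx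
            · exact ⟨one_le_two, Or.inl rfl⟩
            · exact hl' x (by simp only [List.mem_cons] at hx ⊢; tauto)
          · simp only [sumH, List.map_cons, List.sum_cons, ha, hb] at hs' ⊢; omega
          · refine hn'.trans ?_
            simp only [lcmT, ha, hb]
            exact Nat.lcm_dvd ((tt_one_dvd_two hea).trans (Nat.dvd_lcm_left _ _))
              (Nat.lcm_dvd ((tt_one_dvd_two heb).trans (Nat.dvd_lcm_left _ _)) (Nat.dvd_lcm_right _ _))
      simp only [sumH, List.map_cons, List.sum_cons] at hs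
      obtain ⟨e1, e2⟩ | ⟨e1, e2⟩ | ⟨e1, e2⟩ :
          c₁.1 = 1 ∧ c₂.1 = 1 ∨ c₁.1 = 1 ∧ c₃.1 = 1 ∨ c₂.1 = 1 ∧ c₃.1 = 1 := by omega
      · exact main c₁ c₂ c₃ (List.Perm.refl _) e1 e2
      · exact main c₁ c₃ c₂ ((List.Perm.swap _ _ _).cons _) e1 e2
      · exact main c₂ c₃ c₁ (((List.Perm.swap _ _ _).cons _).trans (List.Perm.swap _ _ _)) e1 e2

theorem exists_four_dvd {q : ℕ} (hq : Odd q) : ∃ e : ℤ, (e = 1 ∨ e = -1) ∧ 2 ∣ tt q 1 e / 2 := by
  obtain ⟨k, rfl⟩ := hq
  rcases Nat.even_or_odd k with ⟨c, rfl⟩ | ⟨c, rfl⟩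
  · exact ⟨1, Or.inl rfl, c, by unfold tt; rw [if_pos rfl, pow_one]; omega⟩
  · exact ⟨-1, Or.inr rfl, c + 1, by unfold tt; rw [if_neg (by decide), pow_one]; omega⟩

section

variable {F : Type u} {V : Type v} [Field F] [Finite F] [AddCommGroup V] [Module F V] [FiniteDimensional F V]
variable {Q : QuadraticForm F V}

/-- A fixed-point-free semisimple element of the commutator subgroup. -/
theorem good_of_commutator (hQ : Nondeg Q) (hF : Odd (Nat.card F)) {H : ℕ} (hd : finrank F V = 2 * H)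
    (hH4 : H ≤ 4) (s : O Q) (hn : (orderOf s : F) ≠ 0) (hfix : ∀ x, (s : V ≃ₗ[F] V) x = x → x = 0)
    (hs : s ∈ commutator (O Q)) : Good (Nat.card F) H (orderOf s) := by
  rcases Nat.eq_zero_or_pos H with rfl | hH
  · haveI : Subsingleton V := Module.finrank_zero_iff.1 hd
    exact Or.inl (orderOf_dvd_of_pow_eq_one (O.ext_app fun x => Subsingleton.elim _ _))
  rcases pieces hF H hQ hd hH s hn hfix with hf | ⟨l, hl, hl2, hls, hlo⟩
  · exact good_half hF hH hH4 (sg_or Q) (hf.dvd_half hQ hF hH hd hn hs)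
  · exact good_list hH4 _ l rfl hl hl2 hls hlo

/-- A fixed-point-free semisimple element commuting with a skew map of large nilpotency index. -/
theorem good_of_skew (hQ : Nondeg Q) (hF : Odd (Nat.card F)) {H : ℕ} (hd : finrank F V = 2 * H)
    (hH : 1 ≤ H) (hH4 : H ≤ 4) (s : O Q) (hn : (orderOf s : F) ≠ 0)
    (hfix : ∀ x, (s : V ≃ₗ[F] V) x = x → x = 0) (N : Module.End F V) (hN : Skew Q N)
    (hc : Commute (linHom Q s) N) (hnil : IsNilpotent N) {j : ℕ} (hj : Odd j) (hNj : N ^ j ≠ 0) :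
    (j + 1) / 2 ≤ 3 ∧ Good (Nat.card F) (4 - (j + 1) / 2) (orderOf s) := by
  obtain ⟨l, hl, hl1, hls, hlo, hor⟩ := pieces_skew hF hj H hQ hd hH hH4 s hn hfix N hN hc hnil hNj
  match l, hl, hl1, hls, hlo, hor with
  | [(a, e)], hl, _, hls, hlo, hor =>
    obtain ⟨ha, he⟩ := hl (a, e) (by simp)
    simp only [sumH, List.map_cons, List.map_nil, List.sum_cons, List.sum_nil, add_zero] at hls hor
    simp only [lcmT, Nat.lcm_one_right] at hlo
    dsimp only at ha he
    refine ⟨by omega, ?_⟩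
    rcases hor with h | h | h
    · simp at h
    · exact good_single ha he (by omega) hlo
    · obtain ⟨f, hf, hf2⟩ := exists_four_dvd hF
      exact Or.inr (Or.inr ⟨1, f, le_rfl, hf, by omega, Or.inl (by omega), h.trans hf2⟩)
  | c₁ :: c₂ :: r, hl, _, hls, hlo, _ =>
    have h1 := (hl c₁ (by simp)).1
    have h2 := (hl c₂ (by simp)).1
    have hsum : c₁.1 + c₂.1 ≤ sumH (c₁ :: c₂ :: r) := by simp [sumH]
    exact ⟨by omega, good_list (by omega) _ _ rfl hl (by simp) (by omega) hlo⟩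

end

end Cfsg.Agent.H58.SpecNine
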