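import Cfsg.Agent.H58.SpecNine.Free

/-!
Splitting a fixed-point-free semisimple isometry into free pieces, also in presence of a commuting skew
nilpotent map.
-/

set_option autoImplicit false
set_option linter.unusedSectionVars false
set_option linter.style.haveILetI false

namespace Cfsg.Agent.H58.SpecNine

open Module QuadraticMap Orthogonal H68.EvenOrtho H53 Elusive

universe u v

/-- A list of pieces. -/
def Valid (l : List (ℕ × ℤ)) : Prop := ∀ c ∈ l, 1 ≤ c.1 ∧ (c.2 = 1 ∨ c.2 = -1)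

/-- The total half dimension. -/
def sumH (l : List (ℕ × ℤ)) : ℕ := (l.map Prod.fst).sum

/-- The order provided by a list of pieces. -/
def lcmT (q : ℕ) : List (ℕ × ℤ) → ℕ
  | [] => 1
  | c :: l => Nat.lcm (tt q c.1 c.2) (lcmT q l)

theorem lcmT_append (q : ℕ) (l m : List (ℕ × ℤ)) :
    lcmT q (l ++ m) = Nat.lcm (lcmT q l) (lcmT q m) := by
  induction l with
  | nil => simp [lcmT]
  | cons c l ih => simp [lcmT, ih, Nat.lcm_assoc]

theorem lcm_mono {a b c d : ℕ} (h₁ : a ∣ c) (h₂ : b ∣ d) : Nat.lcm a b ∣ Nat.lcm c d :=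
  Nat.lcm_dvd (h₁.trans (Nat.dvd_lcm_left c d)) (h₂.trans (Nat.dvd_lcm_right c d))

theorem Valid.append {l m : List (ℕ × ℤ)} (hl : Valid l) (hm : Valid m) : Valid (l ++ m) :=
  fun c hc => (List.mem_append.1 hc).elim (hl c) (hm c)

theorem valid_single {h : ℕ} {e : ℤ} (hh : 1 ≤ h) (he : e = 1 ∨ e = -1) : Valid [(h, e)] :=
  fun c hc => by rw [List.mem_singleton] at hc; subst hc; exact ⟨hh, he⟩

theorem sumH_append (l m : List (ℕ × ℤ)) : sumH (l ++ m) = sumH l + sumH m := by simp [sumH]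

section Skew

variable {F : Type u} {V : Type v} [Field F] [Finite F] [AddCommGroup V] [Module F V] [FiniteDimensional F V]
variable {Q : QuadraticForm F V}

/-- Skew with respect to the polar form. -/
def Skew (Q : QuadraticForm F V) (N : Module.End F V) : Prop :=
  ∀ x y, polar Q (N x) y = -polar Q x (N y)

theorem Skew.pow {N : Module.End F V} (hN : Skew Q N) (i : ℕ) (x y : V) :
    polar Q ((N ^ i) x) y = (-1) ^ i * polar Q x ((N ^ i) y) := by
  induction i generalizing x y with
  | zero => simp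
  | succ i ih =>
    conv_lhs => rw [pow_succ, Module.End.mul_apply, ih, hN]
    conv_rhs => rw [pow_succ' N, Module.End.mul_apply]
    ring

/-- A fixed-point-free isometry without eigenvalue `-1` lives in even dimension. -/
theorem even_of_sq_free (hQ : Nondeg Q) (h2 : (2 : F) ≠ 0) (s : O Q)
    (hs : ∀ x, (s : V ≃ₗ[F] V) x = x → x = 0)
    (hs2 : ∀ x, ((s ^ 2 : O Q) : V ≃ₗ[F] V) x = x → x = 0) : Even (finrank F V) := by
  have hdet : ∀ g : O Q, (∀ x, (g : V ≃ₗ[F] V) x = x → x = 0) →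
      LinearMap.det (linHom Q g) = (-1) ^ finrank F V := by
    intro g hg
    refine mul_right_cancel₀ (fun h0 => ?_) (det_mul_det_one_sub hQ g)
    obtain ⟨v, hv, hv0⟩ := Submodule.exists_mem_ne_zero_of_ne_bot (LinearMap.bot_lt_ker_of_det_eq_zero h0).ne'
    refine hv0 (hg v ?_)
    rw [LinearMap.mem_ker, LinearMap.sub_apply, Module.End.one_apply, sub_eq_zero] at hv
    exact hv.symm
  by_contra hodd
  have h1 := hdet _ hs2
  rw [map_pow, map_pow, hdet s hs, (Nat.not_even_iff_odd.1 hodd).neg_one_pow, neg_one_sq] at h1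
  exact h2 (by linear_combination h1)

theorem restrictO_cast (s : O Q) {K : Submodule F V} (hK : ∀ x ∈ K, (s : V ≃ₗ[F] V) x ∈ K)
    (hn : (orderOf s : F) ≠ 0) : (orderOf (restrictO s hK) : F) ≠ 0 := by
  have hd : orderOf (restrictO s hK) ∣ orderOf s := orderOf_dvd_of_pow_eq_one
    (O.ext_app fun x => Subtype.ext (by rw [restrictO_pow_app, pow_orderOf_eq_one]; rfl))
  obtain ⟨c, hc⟩ := hd
  intro h0
  exact hn (by rw [hc, Nat.cast_mul, h0, zero_mul])

theorem inv_perp_skew {N : Module.End F V} (hN : Skew Q N) {K : Submodule F V}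
    (hK : ∀ x ∈ K, N x ∈ K) : ∀ y ∈ perp Q K, N y ∈ perp Q K := fun y hy => by
  refine (mem_perp Q).2 fun k hk => ?_
  have := hy (N k) (hK k hk)
  rw [hN] at this
  simpa using this

theorem Skew.restrict {N : Module.End F V} (hN : Skew Q N) {K : Submodule F V}
    (hK : ∀ x ∈ K, N x ∈ K) : Skew (restr Q K) (N.restrict hK) := fun x y => by
  rw [polar_restr, polar_restr]
  exact hN x y

theorem order_dvd_lcm (hQ : Nondeg Q) {K : Submodule F V} (hK : Nondeg (restr Q K)) (s : O Q)
    (hs : ∀ x ∈ K, (s : V ≃ₗ[F] V) x ∈ K) :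
    orderOf s ∣ Nat.lcm (orderOf (restrictO s hs)) (orderOf (restrictO s (inv_perp s hs))) := by
  refine orderOf_dvd_of_pow_eq_one (O.ext_app fun x => ?_)
  set m := Nat.lcm (orderOf (restrictO s hs)) (orderOf (restrictO s (inv_perp s hs)))
  have h1 : restrictO s hs ^ m = 1 := orderOf_dvd_iff_pow_eq_one.1 (Nat.dvd_lcm_left _ _)
  have h2 : restrictO s (inv_perp s hs) ^ m = 1 := orderOf_dvd_iff_pow_eq_one.1 (Nat.dvd_lcm_right _ _)
  obtain ⟨a, ha, b, hb, rfl⟩ := Submodule.mem_sup.1
    (show x ∈ K ⊔ perp Q K by rw [(hQ.isCompl_perp hK).sup_eq_top]; trivial)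
  have e1 := restrictO_pow_app s hs m ⟨a, ha⟩
  have e2 := restrictO_pow_app s (inv_perp s hs) m ⟨b, hb⟩
  rw [h1] at e1
  rw [h2] at e2
  rw [map_add, ← e1, ← e2]
  rfl

/-- A fixed-point-free isometry that is not free splits. -/
theorem exists_split (hQ : Nondeg Q) (h2 : (2 : F) ≠ 0) (hev : Even (finrank F V)) (s : O Q)
    (hn : (orderOf s : F) ≠ 0) (hfix : ∀ x, (s : V ≃ₗ[F] V) x = x → x = 0) (hfree : ¬ Free s) :
    ∃ K : Submodule F V, ∃ _ : ∀ x ∈ K, (s : V ≃ₗ[F] V) x ∈ K, Nondeg (restr Q K) ∧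
      0 < finrank F K ∧ Even (finrank F K) ∧ 0 < finrank F (perp Q K) ∧
      Even (finrank F (perp Q K)) ∧
      ∀ N : Module.End F V, Commute (linHom Q s) N → ∀ x ∈ K, N x ∈ K := by
  obtain ⟨i, x, hx, hx0, hsi⟩ : ∃ (i : ℕ) (x : V), ((s ^ i : O Q) : V ≃ₗ[F] V) x = x ∧ x ≠ 0 ∧ s ^ i ≠ 1 := by
    by_contra h
    refine hfree fun i x hx => ?_
    by_contra h'
    exact h ⟨i, x, hx, fun e => h' (Or.inl e), fun e => h' (Or.inr e)⟩
  obtain ⟨k, hk1, hk0, hkev⟩ : ∃ k, s ^ k ≠ 1 ∧ (∃ x : V, x ≠ 0 ∧ ((s ^ k : O Q) : V ≃ₗ[F] V) x = x) ∧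
      (k = 2 ∨ ∀ x : V, ((s ^ 2 : O Q) : V ≃ₗ[F] V) x = x → x = 0) := by
    by_cases h : ∀ x : V, ((s ^ 2 : O Q) : V ≃ₗ[F] V) x = x → x = 0
    · exact ⟨i, hsi, ⟨x, hx0, hx⟩, Or.inr h⟩
    · push Not at h
      obtain ⟨y, hy, hy0⟩ := h
      refine ⟨2, fun h1 => ?_, ⟨y, hy0, hy⟩, Or.inl rfl⟩
      rcases Nat.mod_two_eq_zero_or_one i with hi | hi
      · exact hsi (by rw [← Nat.div_add_mod i 2, hi, add_zero, pow_mul, h1, one_pow])
      · refine hx0 (hfix x ?_)
        rwa [← Nat.div_add_mod i 2, hi, pow_succ, pow_mul, h1, one_pow, one_mul] at hx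
  set K := fixS (s ^ k) with hKdef
  have hcast : ((orderOf (s ^ k) : ℕ) : F) ≠ 0 := by
    obtain ⟨c, hc⟩ := orderOf_pow_dvd (x := s) k
    intro h0
    exact hn (by rw [hc, Nat.cast_mul, h0, zero_mul])
  obtain ⟨hKn, -⟩ := perp_fix hQ (s ^ k) hcast (pow_orderOf_eq_one _)
  have hcomm : ∀ N : Module.End F V, Commute (linHom Q s) N → ∀ y ∈ K, N y ∈ K := by
    intro N hN y hy
    rw [hKdef, mem_fixS] at hy ⊢
    rw [← linHom_apply, map_pow, ← Module.End.mul_apply, (hN.pow_left k).eq, Module.End.mul_apply,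
      ← map_pow, linHom_apply, hy]
  have hinv : ∀ y ∈ K, (s : V ≃ₗ[F] V) y ∈ K := hcomm (linHom Q s) (Commute.refl _)
  have hpinv := inv_perp s hinv
  have hfinP : finrank F K + finrank F (perp Q K) = finrank F V := hQ.finrank_add_perp K
  have hPeven : Even (finrank F (perp Q K)) := by
    refine even_of_sq_free (hQ.nondeg_perp hKn) h2 (restrictO s hpinv)
      (fun y hy => Subtype.ext (hfix _ (congrArg Subtype.val hy))) (fun y hy => ?_)
    have hy' : ((s ^ 2 : O Q) : V ≃ₗ[F] V) (y : V) = y := by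
      rw [← restrictO_pow_app s hpinv]; exact congrArg Subtype.val hy
    rcases hkev with rfl | h
    · have : (y : V) ∈ K ⊓ perp Q K := ⟨mem_fixS.2 hy', y.2⟩
      rw [(nondeg_restr_iff K).1 hKn, Submodule.mem_bot] at this
      exact Subtype.ext this
    · exact Subtype.ext (h _ hy')
  refine ⟨K, hinv, hKn, ?_, ?_, ?_, hPeven, hcomm⟩
  · obtain ⟨y, hy0, hy⟩ := hk0
    rw [Nat.pos_iff_ne_zero]
    intro h0
    have : y ∈ K := mem_fixS.2 hy
    rw [Submodule.finrank_eq_zero.1 h0, Submodule.mem_bot] at this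
    exact hy0 this
  · rw [← hfinP] at hev
    exact (Nat.even_add.1 hev).2 hPeven
  · rw [Nat.pos_iff_ne_zero]
    intro h0
    refine hk1 (O.ext_app fun y => ?_)
    have htop : K = ⊤ := Submodule.eq_top_of_finrank_eq (by omega)
    exact mem_fixS.1 (show y ∈ K by rw [htop]; trivial)

/-- The ranks of the powers of a nilpotent map. -/
theorem rank_bound {N : Module.End F V} {J : ℕ} (hJ : N ^ (J + 1) = 0) :
    (J + 1) * finrank F (LinearMap.range (N ^ J)) ≤ finrank F V := by
  have key : ∀ d i, i + d = J + 1 →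
      d * finrank F (LinearMap.range (N ^ J)) ≤ finrank F (LinearMap.range (N ^ i)) := by
    intro d
    induction d with
    | zero => intros; simp
    | succ d ih =>
      intro i hi
      have h1 := LinearMap.finrank_range_add_finrank_ker (N.domRestrict (LinearMap.range (N ^ i)))
      have hr : LinearMap.range (N.domRestrict (LinearMap.range (N ^ i))) = LinearMap.range (N ^ (i + 1)) := by
        rw [LinearMap.domRestrict, LinearMap.range_comp, Submodule.range_subtype, pow_succ',
          Module.End.mul_eq_comp, LinearMap.range_comp]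
      have hle : LinearMap.range (N ^ J) ≤ LinearMap.range (N ^ i) := by
        rintro - ⟨a, rfl⟩
        exact ⟨(N ^ (J - i)) a, by rw [← Module.End.mul_apply, ← pow_add, Nat.add_sub_cancel' (by omega)]⟩
      have h2 : finrank F (LinearMap.range (N ^ J)) ≤
          finrank F (LinearMap.ker (N.domRestrict (LinearMap.range (N ^ i)))) := by
        refine LinearMap.finrank_le_finrank_of_injective (f := LinearMap.codRestrict _ (Submodule.inclusion hle)
          fun c => ?_) (fun a b e => Submodule.inclusion_injective hle (congrArg Subtype.val e))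
        obtain ⟨_, a, rfl⟩ := c
        show N ((N ^ J) a) = 0
        rw [← Module.End.mul_apply, ← pow_succ', hJ, LinearMap.zero_apply]
      rw [hr] at h1
      rw [Nat.succ_mul, ← h1]
      exact Nat.add_le_add (ih (i + 1) (by omega)) h2
  have := key (J + 1) 0 (by omega)
  exact this.trans (Submodule.finrank_le _)

/-- In a free space a skew map of nilpotency index above `j` halves the dimension often enough. -/
theorem exists_small (hQ : Nondeg Q) (hF : Odd (Nat.card F)) {H : ℕ} (hd : finrank F V = 2 * H)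
    (hH : 1 ≤ H) (s : O Q) (hn : (orderOf s : F) ≠ 0) (hfix : ∀ x, (s : V ≃ₗ[F] V) x = x → x = 0)
    (hfree : Free s) (N : Module.End F V) (hN : Skew Q N) (hc : Commute (linHom Q s) N)
    (hnil : IsNilpotent N) {j : ℕ} (hj : Odd j) (hNj : N ^ j ≠ 0) :
    (orderOf s ∣ 2 ∧ j + 3 ≤ 2 * H) ∨
      ∃ (r : ℕ) (e : ℤ), 1 ≤ r ∧ (e = 1 ∨ e = -1) ∧ (j + 1) * r ≤ H ∧
        orderOf s ∣ tt (Nat.card F) r e := by
  classical
  have h2 := two_ne_zero_of_odd_card hF
  have hex : ∃ m, N ^ (m + 1) = 0 := by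
    obtain ⟨m, hm⟩ := hnil
    exact ⟨m, by rw [pow_succ, hm, zero_mul]⟩
  set J := Nat.find hex
  have hJ : N ^ (J + 1) = 0 := Nat.find_spec hex
  have hjJ : j ≤ J := by
    by_contra hlt
    exact hNj (pow_eq_zero_of_le (by omega) hJ)
  have hJ0 : N ^ J ≠ 0 := by
    intro h0
    have hJpos : 0 < J := hj.pos.trans_le hjJ
    exact Nat.find_min hex (m := J - 1) (by omega) (by rwa [Nat.sub_add_cancel hJpos])
  set R := LinearMap.range (N ^ J) with hR
  have hrank := rank_bound hJ
  rw [← hR, hd] at hrank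
  have hR0 : 0 < finrank F R := by
    rw [Nat.pos_iff_ne_zero]
    intro h0
    exact hJ0 (LinearMap.range_eq_bot.1 (Submodule.finrank_eq_zero.1 h0))
  have hperp : ∀ (D : V →ₗ[F] V) (z : V), Function.Surjective D → (∀ y, polar Q z (D y) = 0) → z = 0 :=
    fun D z hD h => hQ z fun y => by obtain ⟨w, rfl⟩ := hD y; exact h w
  by_cases hs2 : orderOf s ∣ 2
  · refine Or.inl ⟨hs2, ?_⟩
    rcases Nat.even_or_odd J with hJe | hJo
    · obtain ⟨a, ha⟩ := hJe
      obtain ⟨b, hb⟩ := hj
      have : J + 1 ≤ 2 * H := le_trans (Nat.le_mul_of_pos_right _ hR0) hrank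
      omega
    · have hR2 : 2 ≤ finrank F R := by
        by_contra hlt
        have h1 : finrank F R = 1 := by omega
        obtain ⟨⟨_, x0, rfl⟩, hne, hspan⟩ := finrank_eq_one_iff'.1 h1
        refine hne (Subtype.ext (hQ _ fun y => ?_))
        obtain ⟨c, hcy⟩ := hspan ⟨(N ^ J) y, y, rfl⟩
        have hcy' : c • (N ^ J) x0 = (N ^ J) y := congrArg Subtype.val hcy
        have e1 := hN.pow J x0 y
        rw [hJo.neg_one_pow, neg_one_mul] at e1
        have e0 := hN.pow J x0 x0
        rw [hJo.neg_one_pow, neg_one_mul, polar_comm Q x0] at e0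
        have e0' : polar Q ((N ^ J) x0) x0 = 0 :=
          (mul_eq_zero.1 (show (2 : F) * polar Q ((N ^ J) x0) x0 = 0 by linear_combination e0)).resolve_left h2
        show polar Q ((N ^ J) x0) y = 0
        rw [e1, ← hcy', polar_smul_right', polar_comm Q x0, e0', mul_zero, neg_zero]
      have : 2 * (J + 1) ≤ 2 * H := by
        calc 2 * (J + 1) ≤ (J + 1) * finrank F R := by rw [mul_comm]; exact Nat.mul_le_mul_left _ hR2
          _ ≤ 2 * H := hrank
      have := hj.pos
      omega
  right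
  have hfix2 : ∀ x, ((s ^ 2 : O Q) : V ≃ₗ[F] V) x = x → x = 0 := fun x hx =>
    (hfree 2 x hx).resolve_right fun h => hs2 (orderOf_dvd_of_pow_eq_one h)
  -- the symmetrising factor
  obtain ⟨D, hDs, hDN, hDsk, hDsurj⟩ : ∃ D : Module.End F V, Commute (linHom Q s) D ∧ Commute N D ∧
      (∀ a b, polar Q (D a) b = (-1) ^ J * polar Q a (D b)) ∧ Function.Surjective D := by
    rcases Nat.even_or_odd J with hJe | hJo
    · exact ⟨1, Commute.one_right _, Commute.one_right _, fun a b => by rw [hJe.neg_one_pow, one_mul]; rfl,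
        fun y => ⟨y, rfl⟩⟩
    · refine ⟨linHom Q s - linHom Q s⁻¹, ?_, ?_, fun a b => ?_, ?_⟩
      · refine (Commute.refl _).sub_right ?_
        show linHom Q s * linHom Q s⁻¹ = linHom Q s⁻¹ * linHom Q s
        rw [← map_mul, ← map_mul, mul_inv_cancel, inv_mul_cancel]
      · have h' : Commute N (linHom Q s⁻¹) := by
          show N * linHom Q s⁻¹ = linHom Q s⁻¹ * N
          calc N * linHom Q s⁻¹ = linHom Q s⁻¹ * (linHom Q s * N) * linHom Q s⁻¹ := by
                rw [← mul_assoc, ← map_mul, inv_mul_cancel, map_one, one_mul]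
            _ = linHom Q s⁻¹ * N := by
                rw [hc.eq, mul_assoc, mul_assoc, ← map_mul, mul_inv_cancel, map_one, mul_one]
        exact hc.symm.sub_right h'
      · have e1 : ∀ g : O Q, polar Q (linHom Q g a) b = polar Q a (linHom Q g⁻¹ b) := fun g => by
          have h := polar_linHom g a (linHom Q g⁻¹ b)
          rw [← Module.End.mul_apply, ← map_mul, mul_inv_cancel, map_one, Module.End.one_apply] at h
          exact h
        rw [LinearMap.sub_apply, LinearMap.sub_apply, polar_sub_left, polar_sub_right, e1, e1, inv_inv,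
          hJo.neg_one_pow]
        ring
      · refine LinearMap.injective_iff_surjective.1 ((injective_iff_map_eq_zero _).2 fun x hx => hfix2 x ?_)
        rw [LinearMap.sub_apply, sub_eq_zero] at hx
        show linHom Q (s ^ 2) x = x
        rw [pow_two, map_mul, Module.End.mul_apply, hx, ← Module.End.mul_apply, ← map_mul, mul_inv_cancel,
          map_one]
        rfl
  obtain ⟨sec, hsec⟩ := LinearMap.exists_rightInverse_of_surjective (N ^ J).rangeRestrict
    (LinearMap.range_rangeRestrict _)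
  have hsec' : ∀ r : R, (N ^ J) (sec r) = r := fun r => congrArg Subtype.val (LinearMap.congr_fun hsec r)
  have hNDJ : ∀ a, (N ^ J) (D a) = D ((N ^ J) a) := fun a => LinearMap.congr_fun (hDN.pow_left J).eq a
  have hindep : ∀ a c c', (N ^ J) c = (N ^ J) c' →
      polar Q ((N ^ J) a) (D c) = polar Q ((N ^ J) a) (D c') := by
    intro a c c' h
    rw [hN.pow, hN.pow J a, hNDJ, hNDJ, h]
  have hsymm : ∀ a c, polar Q ((N ^ J) c) (D a) = polar Q ((N ^ J) a) (D c) := by
    intro a c
    rw [hN.pow, hNDJ, polar_comm, hDsk, ← mul_assoc, ← mul_pow]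
    norm_num
  let B : LinearMap.BilinMap F R F := Q.polarBilin.compl₁₂ R.subtype (D.comp sec)
  let Q' : QuadraticForm F R := LinearMap.BilinMap.toQuadraticMap B
  have hQ'a : ∀ r : R, Q' r = polar Q (r : V) (D (sec r)) := fun r => rfl
  have hQ'n : Nondeg Q' := by
    intro r hr
    have hz : (r : V) = 0 := hperp D _ hDsurj fun y => by
      have h := hr ⟨(N ^ J) y, y, rfl⟩
      rw [LinearMap.BilinMap.polar_toQuadraticMap] at h
      change polar Q (r : V) (D (sec _)) + polar Q ((N ^ J) y) (D (sec r)) = 0 at h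
      rw [← hsec' r, hindep (sec r) _ y (hsec' _), hsymm (sec r) y, hsec'] at h
      exact (mul_eq_zero.1 (show (2 : F) * polar Q (r : V) (D y) = 0 by linear_combination h)).resolve_left h2
    exact Subtype.ext hz
  have hinvR : ∀ g : O Q, Commute (linHom Q g) N → ∀ x ∈ R, (g : V ≃ₗ[F] V) x ∈ R := by
    rintro g hg _ ⟨a, rfl⟩
    exact ⟨linHom Q g a, LinearMap.congr_fun (hg.pow_right J).eq.symm a⟩
  have hinj : Function.Injective ((linHom Q s).restrict (hinvR s hc)) := fun a b e =>
    Subtype.ext ((s : V ≃ₗ[F] V).injective (congrArg Subtype.val e))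
  let sR : R ≃ₗ[F] R := LinearEquiv.ofBijective _ ⟨hinj, LinearMap.injective_iff_surjective.1 hinj⟩
  have hsRa : ∀ r : R, (sR r : V) = linHom Q s r := fun r => rfl
  have hsR : sR ∈ O Q' := by
    intro r
    rw [hQ'a, hQ'a, hsRa]
    have e : polar Q (linHom Q s (r : V)) (D (sec (sR r))) =
        polar Q (linHom Q s (r : V)) (D (linHom Q s (sec r))) := by
      have hr : linHom Q s (r : V) = (N ^ J) (linHom Q s (sec r)) := by
        conv_lhs => rw [← hsec' r]
        exact LinearMap.congr_fun (hc.pow_right J).eq _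
      rw [hr]
      refine hindep _ _ _ ?_
      rw [hsec', hsRa]
      exact hr
    rw [e, ← Module.End.mul_apply D, hDs.eq.symm, Module.End.mul_apply, polar_linHom]
  set t : O Q' := ⟨sR, hsR⟩
  have htp : ∀ (i : ℕ) (r : R), ((((t ^ i : O Q') : R ≃ₗ[F] R) r : R) : V) = ((s ^ i : O Q) : V ≃ₗ[F] V) r := by
    intro i
    induction i with
    | zero => intro r; rfl
    | succ i ih =>
      intro r
      rw [pow_succ', pow_succ', Subgroup.coe_mul, Subgroup.coe_mul, mul_app, mul_app, ← ih r]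
      rfl
  have htfix : ∀ (i : ℕ) (r : R), ((t ^ i : O Q') : R ≃ₗ[F] R) r = r → r = 0 ∨ s ^ i = 1 := by
    intro i r hr
    rcases hfree i (r : V) (by rw [← htp, hr]) with h | h
    · exact Or.inl (Subtype.ext h)
    · exact Or.inr h
  have htfree : Free t := by
    intro i r hr
    rcases htfix i r hr with h | h
    · exact Or.inl h
    · exact Or.inr (O.ext_app fun x => Subtype.ext (by rw [htp, h]; rfl))
  have htord : orderOf s ∣ orderOf t := by
    haveI : Nontrivial R := Module.finrank_pos_iff.1 hR0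
    obtain ⟨r, hr⟩ := exists_ne (0 : R)
    exact orderOf_dvd_of_pow_eq_one ((htfix _ r (by rw [pow_orderOf_eq_one]; rfl)).resolve_left hr)
  have htF : (orderOf t : F) ≠ 0 := by
    have hd' : orderOf t ∣ orderOf s := orderOf_dvd_of_pow_eq_one
      (O.ext_app fun x => Subtype.ext (by rw [htp, pow_orderOf_eq_one]; rfl))
    rwa [Nat.dvd_antisymm hd' htord]
  obtain ⟨r, hr⟩ := even_of_sq_free hQ'n h2 t
    (fun x hx => Subtype.ext (hfix _ (congrArg Subtype.val hx)))
    (fun x hx => Subtype.ext (hfix2 _ (by rw [← htp, hx])))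
  rw [← two_mul] at hr
  refine ⟨r, sg Q', by omega, sg_or Q', ?_, htord.trans (htfree.dvd_tt hQ'n (by omega) hr htF)⟩
  have h1 : (j + 1) * r ≤ (J + 1) * r := Nat.mul_le_mul_right _ (by omega)
  rw [hr, mul_comm 2 r, ← mul_assoc] at hrank
  omega

end Skew

section Induct

variable {F : Type u} [Field F] [Finite F]

/-- Pieces of a fixed-point-free isometry. -/
theorem pieces (hF : Odd (Nat.card F)) : ∀ (H : ℕ) {V : Type v} [AddCommGroup V] [Module F V]
    [FiniteDimensional F V] {Q : QuadraticForm F V}, Nondeg Q → finrank F V = 2 * H → 1 ≤ H →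
    ∀ s : O Q, (orderOf s : F) ≠ 0 → (∀ x, (s : V ≃ₗ[F] V) x = x → x = 0) →
    Free s ∨ ∃ l, Valid l ∧ 2 ≤ l.length ∧ sumH l ≤ H ∧ orderOf s ∣ lcmT (Nat.card F) l := by
  intro H
  induction H using Nat.strong_induction_on with
  | _ H ih =>
    intro V _ _ _ Q hQ hd hH s hn hfix
    by_cases hfree : Free s
    · exact Or.inl hfree
    right
    obtain ⟨K, hKi, hKn, hK0, ⟨a, ha⟩, hP0, ⟨b, hb⟩, -⟩ :=
      exists_split hQ (two_ne_zero_of_odd_card hF) (hd ▸ even_two_mul H) s hn hfix hfree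
    have hsum := hQ.finrank_add_perp K
    have cov : ∀ (L : Submodule F V) (hL : ∀ x ∈ L, (s : V ≃ₗ[F] V) x ∈ L), Nondeg (restr Q L) →
        ∀ c, finrank F L = 2 * c → 1 ≤ c → c < H → ∃ l, Valid l ∧ 1 ≤ l.length ∧ sumH l ≤ c ∧
          orderOf (restrictO s hL) ∣ lcmT (Nat.card F) l := by
      intro L hL hLn c hc hc1 hcH
      rcases ih c hcH hLn hc hc1 (restrictO s hL) (restrictO_cast s hL hn)
          (fun x hx => Subtype.ext (hfix _ (congrArg Subtype.val hx))) with hf | ⟨l, hl, hl2, hls, hlo⟩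
      · refine ⟨[(c, sg (restr Q L))], valid_single hc1 (sg_or _), le_rfl, by simp [sumH], ?_⟩
        simpa [lcmT] using hf.dvd_tt hLn hc1 hc (restrictO_cast s hL hn)
      · exact ⟨l, hl, by omega, hls, hlo⟩
    obtain ⟨l, hl, hl1, hls, hlo⟩ := cov K hKi hKn a (by omega) (by omega) (by omega)
    obtain ⟨m, hm, hm1, hms, hmo⟩ := cov (perp Q K) (inv_perp s hKi) (hQ.nondeg_perp hKn) b (by omega)
      (by omega) (by omega)
    refine ⟨l ++ m, hl.append hm, by rw [List.length_append]; omega, by rw [sumH_append]; omega, ?_⟩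
    rw [lcmT_append]
    exact (order_dvd_lcm hQ hKn s hKi).trans (lcm_mono hlo hmo)

/-- The pieces as a list. -/
theorem cover (hF : Odd (Nat.card F)) {V : Type v} [AddCommGroup V] [Module F V]
    [FiniteDimensional F V] {Q : QuadraticForm F V} (hQ : Nondeg Q) {H : ℕ} (hd : finrank F V = 2 * H)
    (hH : 1 ≤ H) (s : O Q) (hn : (orderOf s : F) ≠ 0) (hfix : ∀ x, (s : V ≃ₗ[F] V) x = x → x = 0) :
    ∃ l, Valid l ∧ 1 ≤ l.length ∧ sumH l ≤ H ∧ orderOf s ∣ lcmT (Nat.card F) l := by
  rcases pieces hF H hQ hd hH s hn hfix with hf | ⟨l, hl, hl2, hls, hlo⟩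
  · exact ⟨[(H, sg Q)], valid_single hH (sg_or _), le_rfl, by simp [sumH],
      by simpa [lcmT] using hf.dvd_tt hQ hH hd hn⟩
  · exact ⟨l, hl, by omega, hls, hlo⟩

/-- Pieces in presence of a skew map of large nilpotency index. -/
theorem pieces_skew (hF : Odd (Nat.card F)) {j : ℕ} (hj : Odd j) : ∀ (H : ℕ) {V : Type v}
    [AddCommGroup V] [Module F V] [FiniteDimensional F V] {Q : QuadraticForm F V}, Nondeg Q →
    finrank F V = 2 * H → 1 ≤ H → H ≤ 4 →
    ∀ s : O Q, (orderOf s : F) ≠ 0 → (∀ x, (s : V ≃ₗ[F] V) x = x → x = 0) →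
    ∀ N : Module.End F V, Skew Q N → Commute (linHom Q s) N → IsNilpotent N → N ^ j ≠ 0 →
    ∃ l, Valid l ∧ 1 ≤ l.length ∧ sumH l + (j + 1) / 2 ≤ H ∧ orderOf s ∣ lcmT (Nat.card F) l ∧
      (2 ≤ l.length ∨ sumH l + (j + 1) / 2 < 4 ∨ orderOf s ∣ 2) := by
  intro H
  induction H using Nat.strong_induction_on with
  | _ H ih =>
    intro V _ _ _ Q hQ hd hH hH4 s hn hfix N hN hc hnil hNj
    have hjp := hj.pos
    obtain ⟨j', hj'⟩ := hj
    by_cases hfree : Free s
    · rcases exists_small hQ hF hd hH s hn hfix hfree N hN hc hnil ⟨j', hj'⟩ hNj with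
        ⟨ho, hb⟩ | ⟨r, e, hr, he, hb, ho⟩
      · refine ⟨[(1, 1)], valid_single le_rfl (Or.inl rfl), le_rfl, by simp [sumH]; omega, ?_,
          Or.inr (Or.inr ho)⟩
        refine ho.trans ?_
        simpa [lcmT] using (even_tt hF 1 1).two_dvd
      · have h1 : j * r + r ≤ H := by rw [add_one_mul] at hb; exact hb
        have h2 : j ≤ j * r := Nat.le_mul_of_pos_right _ hr
        refine ⟨[(r, e)], valid_single hr he, le_rfl, by simp [sumH]; omega, by simpa [lcmT] using ho,
          Or.inr (Or.inl ?_)⟩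
        simp only [sumH, List.map_cons, List.map_nil, List.sum_cons, List.sum_nil, add_zero]
        rcases Nat.lt_or_ge j 2 with hj1 | hj1
        · obtain rfl : j = 1 := by omega
          omega
        · omega
    obtain ⟨K, hKi, hKn, hK0, ⟨a, ha⟩, hP0, ⟨b, hb⟩, hKc⟩ :=
      exists_split hQ (two_ne_zero_of_odd_card hF) (hd ▸ even_two_mul H) s hn hfix hfree
    have hsum := hQ.finrank_add_perp K
    have hPn := hQ.nondeg_perp hKn
    have hKN := hKc N hc
    have hPN := inv_perp_skew hN hKN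
    have part : ∀ (L : Submodule F V) (hL : ∀ x ∈ L, (s : V ≃ₗ[F] V) x ∈ L) (hLN : ∀ x ∈ L, N x ∈ L)
        (M : Submodule F V) (hM : ∀ x ∈ M, (s : V ≃ₗ[F] V) x ∈ M), Nondeg (restr Q L) → Nondeg (restr Q M) →
        ∀ c d, finrank F L = 2 * c → finrank F M = 2 * d → 1 ≤ c → 1 ≤ d → c + d = H →
        (N ^ j : Module.End F V).comp L.subtype ≠ 0 →
        orderOf s ∣ Nat.lcm (orderOf (restrictO s hL)) (orderOf (restrictO s hM)) →
        ∃ l, Valid l ∧ 1 ≤ l.length ∧ sumH l + (j + 1) / 2 ≤ H ∧ orderOf s ∣ lcmT (Nat.card F) l ∧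
          (2 ≤ l.length ∨ sumH l + (j + 1) / 2 < 4 ∨ orderOf s ∣ 2) := by
      intro L hL hLN M hM hLn hMn c d hc' hd' hc1 hd1 hcd hne hdvd
      obtain ⟨l, hl, hl1, hls, hlo, -⟩ := ih c (by omega) hLn hc' hc1 (by omega) (restrictO s hL)
        (restrictO_cast s hL hn) (fun x hx => Subtype.ext (hfix _ (congrArg Subtype.val hx)))
        (N.restrict hLN) (hN.restrict hLN) (LinearMap.ext fun x => Subtype.ext (LinearMap.congr_fun hc.eq x.1))
        (by
          obtain ⟨m, hm⟩ := hnil
          exact ⟨m, LinearMap.ext fun x => Subtype.ext (by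
            rw [Module.End.pow_restrict m, LinearMap.coe_restrict_apply, hm]; rfl)⟩)
        (fun h0 => hne (LinearMap.ext fun x => by
          have := congrArg Subtype.val (LinearMap.congr_fun h0 x)
          rw [Module.End.pow_restrict j, LinearMap.coe_restrict_apply] at this
          exact this))
      obtain ⟨m, hm, hm1, hms, hmo⟩ := cover hF hMn hd' hd1 (restrictO s hM)
        (restrictO_cast s hM hn) (fun x hx => Subtype.ext (hfix _ (congrArg Subtype.val hx)))
      refine ⟨l ++ m, hl.append hm, by rw [List.length_append]; omega, by rw [sumH_append]; omega, ?_,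
        Or.inl (by rw [List.length_append]; omega)⟩
      rw [lcmT_append]
      exact hdvd.trans (lcm_mono hlo hmo)
    by_cases hne : (N ^ j : Module.End F V).comp K.subtype = 0
    · refine part (perp Q K) (inv_perp s hKi) hPN K hKi hPn hKn b a (by omega) (by omega) (by omega) (by omega)
        (by omega) (fun h0 => hNj (LinearMap.ext fun x => ?_))
        ((Nat.lcm_comm _ _).symm ▸ order_dvd_lcm hQ hKn s hKi)
      obtain ⟨y, hy, z, hz, rfl⟩ := Submodule.mem_sup.1
        (show x ∈ K ⊔ perp Q K by rw [(hQ.isCompl_perp hKn).sup_eq_top]; trivial)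
      have e1 : (N ^ j) y = 0 := LinearMap.congr_fun hne ⟨y, hy⟩
      have e2 : (N ^ j) z = 0 := LinearMap.congr_fun h0 ⟨z, hz⟩
      rw [map_add, e1, e2, LinearMap.zero_apply, add_zero]
    · exact part K hKi hKN (perp Q K) (inv_perp s hKi) hKn hPn a b (by omega) (by omega) (by omega) (by omega)
        (by omega) hne (order_dvd_lcm hQ hKn s hKi)

end Induct

end Cfsg.Agent.H58.SpecNine
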