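import Cfsg.Agent.H58.Elusive.Sign
import Cfsg.Agent.H58.Elusive.Bridge
import Cfsg.Agent.H53.OrthoTorus
import Cfsg.Agent.Orthogonal.Spinor

/-!
Semisimple isometries all of whose powers are trivial or fixed-point-free, in even dimension.
-/

set_option autoImplicit false
set_option linter.unusedSectionVars false
set_option linter.style.haveILetI false

namespace Cfsg.Agent.H58.SpecNine

open Module QuadraticMap Orthogonal H68.EvenOrtho H53 Elusive

variable {F V : Type*} [Field F] [Finite F] [AddCommGroup V] [Module F V] [FiniteDimensional F V]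
variable {Q : QuadraticForm F V}

/-- `q^h - ε` for a sign `ε`. -/
def tt (q h : ℕ) (e : ℤ) : ℕ := if e = 1 then q ^ h - 1 else q ^ h + 1

theorem cast_tt {q h : ℕ} {e : ℤ} (hq : 1 ≤ q) (he : e = 1 ∨ e = -1) :
    (tt q h e : ℤ) = (q : ℤ) ^ h - e := by
  unfold tt
  rcases he with rfl | rfl
  · rw [if_pos rfl, Nat.cast_sub (Nat.one_le_pow _ _ hq)]; push_cast; ring
  · rw [if_neg (by decide)]; push_cast; ring

/-- Every power is trivial or fixed-point-free. -/
def Free (s : O Q) : Prop := ∀ (i : ℕ) (x : V), ((s ^ i : O Q) : V ≃ₗ[F] V) x = x → x = 0 ∨ s ^ i = 1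

theorem two_ne_zero_of_odd_card (hF : Odd (Nat.card F)) : (2 : F) ≠ 0 := by
  haveI : Fintype F := Fintype.ofFinite F
  refine Ring.two_ne_zero fun h => ?_
  have := (FiniteField.even_card_iff_char_two (F := F)).1 h
  rw [← Nat.card_eq_fintype_card] at this
  obtain ⟨k, hk⟩ := hF
  omega

theorem coprime_q {n : ℕ} (hn : (n : F) ≠ 0) : Nat.Coprime n (Nat.card F) := by
  haveI : Fintype F := Fintype.ofFinite F
  obtain ⟨k, hp, hk⟩ := FiniteField.card F (ringChar F)
  rw [Nat.card_eq_fintype_card, hk]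
  refine Nat.Coprime.pow_right _ ?_
  rw [Nat.coprime_comm, hp.coprime_iff_not_dvd]
  intro hd
  exact hn ((CharP.cast_eq_zero_iff F (ringChar F) n).2 hd)

/-- The number of vectors of norm one. -/
theorem card_sphere (hQ : Nondeg Q) {h : ℕ} (hh : 1 ≤ h) (hd : finrank F V = 2 * h) :
    Nat.card {x : V // Q x = 1} = Nat.card F ^ (h - 1) * tt (Nat.card F) h (sg Q) := by
  have hs := sphere_all hQ hd 1
  rw [if_neg one_ne_zero, add_zero] at hs
  have hq : 1 ≤ Nat.card F := Nat.card_pos
  have hq0 : (Nat.card F : ℤ) ≠ 0 := by exact_mod_cast (Nat.card_pos (α := F)).ne'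
  have : ((Nat.card {x : V // Q x = 1} : ℕ) : ℤ) =
      ((Nat.card F ^ (h - 1) * tt (Nat.card F) h (sg Q) : ℕ) : ℤ) := by
    push_cast
    rw [cast_tt hq (sg_or Q)]
    refine mul_left_cancel₀ hq0 ?_
    obtain ⟨k, rfl⟩ := Nat.exists_eq_add_of_le' hh
    rw [Nat.add_sub_cancel]
    linear_combination hs
  exact_mod_cast this

theorem Free.pow {s : O Q} (hs : Free s) (k : ℕ) : Free (s ^ k) := fun i x hx => by
  rw [← pow_mul] at hx ⊢
  exact hs _ x hx

/-- The order of a free isometry divides the size of the sphere. -/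
theorem Free.dvd_sphere {s : O Q} (hs : Free s) :
    orderOf s ∣ Nat.card {x : V // Q x = 1} := by
  classical
  haveI : Finite V := Module.finite_of_finite F
  haveI : Finite (O Q) := Finite.of_injective (fun g : O Q => ((g : V ≃ₗ[F] V) : V → V))
    fun a b e => O.ext_app fun x => congrFun e x
  let G := Subgroup.zpowers s
  letI : MulAction G {x : V // Q x = 1} :=
    MulAction.compHom _ ((spherePerm Q).comp G.subtype)
  have hfree : ∀ b : {x : V // Q x = 1}, MulAction.stabilizer G b = ⊥ := fun b => by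
    rw [Subgroup.eq_bot_iff_forall]
    rintro ⟨g, hg⟩ hgb
    obtain ⟨i, rfl⟩ := (mem_powers_iff_mem_zpowers.2 hg : g ∈ Submonoid.powers s)
    refine Subtype.ext ((hs i b ?_).resolve_left fun h0 => ?_)
    · exact congrArg Subtype.val (MulAction.mem_stabilizer_iff.1 hgb)
    · have := b.2
      rw [h0, QuadraticMap.map_zero] at this
      exact zero_ne_one this
  rw [Nat.card_congr (MulAction.selfEquivOrbitsQuotientProd hfree), Nat.card_prod, Nat.card_zpowers]
  exact dvd_mul_left _ _

theorem Free.dvd_tt (hQ : Nondeg Q) {h : ℕ} (hh : 1 ≤ h) (hd : finrank F V = 2 * h) {s : O Q}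
    (hs : Free s) (hp : (orderOf s : F) ≠ 0) : orderOf s ∣ tt (Nat.card F) h (sg Q) := by
  have := hs.dvd_sphere
  rw [card_sphere hQ hh hd] at this
  exact ((coprime_q hp).pow_right _).dvd_of_dvd_mul_left this

theorem even_tt (hF : Odd (Nat.card F)) (h : ℕ) (e : ℤ) : Even (tt (Nat.card F) h e) := by
  obtain ⟨k, hk⟩ := hF.pow (n := h)
  unfold tt
  split_ifs <;> rw [hk]
  · exact ⟨k, by omega⟩
  · exact ⟨k + 1, by omega⟩

/-- A free element of the commutator subgroup has order dividing half of `q^h - ε`. -/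
theorem Free.dvd_half (hQ : Nondeg Q) (hF : Odd (Nat.card F)) {h : ℕ} (hh : 1 ≤ h)
    (hd : finrank F V = 2 * h) {s : O Q} (hs : Free s) (hp : (orderOf s : F) ≠ 0)
    (hc : s ∈ commutator (O Q)) : orderOf s ∣ tt (Nat.card F) h (sg Q) / 2 := by
  classical
  haveI : Finite V := Module.finite_of_finite F
  set T := tt (Nat.card F) h (sg Q) with hT
  obtain ⟨k, hk⟩ := hs.dvd_tt hQ hh hd hp
  rw [← hT] at hk
  rcases Nat.even_or_odd k with ⟨j, rfl⟩ | hkodd
  · exact ⟨j, by rw [hk, show orderOf s * (j + j) = orderOf s * j * 2 by ring, Nat.mul_div_cancel _ two_pos]⟩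
  exfalso
  have hn0 : orderOf s ≠ 0 := fun h0 => hp (by rw [h0, Nat.cast_zero])
  have hne : Even (orderOf s) := by
    have hTe : Even T := even_tt hF h (sg Q)
    rw [hk, Nat.even_mul] at hTe
    exact hTe.resolve_right (Nat.not_even_iff_odd.2 hkodd)
  obtain ⟨v, m, hm2, hnm⟩ := Nat.exists_eq_pow_mul_and_not_dvd hn0 2 (by norm_num)
  have hm : Odd m := Nat.odd_iff.2 (by omega)
  have hv : v ≠ 0 := by
    rintro rfl
    rw [pow_zero, one_mul] at hnm
    exact Nat.not_even_iff_odd.2 hm (hnm ▸ hne)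
  have hx : orderOf (s ^ m) = 2 ^ v := by
    rw [orderOf_pow_of_dvd (by omega) ⟨2 ^ v, by rw [hnm]; ring⟩, hnm, Nat.mul_div_cancel _ (by omega)]
  haveI : Fintype {x : V // Q x = 1} := Fintype.ofFinite _
  set σ := spherePerm Q (s ^ m) with hσ
  have hmove : ∀ x, σ x ≠ x := fun x hfix => by
    rcases (hs m x.1 (congrArg Subtype.val hfix)) with h0 | h1
    · have := x.2
      rw [h0, QuadraticMap.map_zero] at this
      exact zero_ne_one this
    · rw [h1, orderOf_one] at hx
      exact absurd hx.symm (Nat.one_lt_two_pow hv).ne'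
  have hN : Even (2 ^ v) := (Nat.even_pow).2 ⟨even_two, hv⟩
  have hfr : ∀ x i, σ x ≠ x → (σ ^ i) x = x → 2 ^ v ∣ i := by
    intro x i _ hi
    rw [← hx]
    refine orderOf_dvd_of_pow_eq_one ((hs.pow m i x.1 ?_).resolve_left fun h0 => ?_)
    · rw [hσ, ← map_pow] at hi
      exact congrArg Subtype.val hi
    · have := x.2
      rw [h0, QuadraticMap.map_zero] at this
      exact zero_ne_one this
  obtain ⟨-, hsign⟩ := sign_of_free σ hN (by rw [hσ, ← map_pow, ← hx, pow_orderOf_eq_one, map_one]) hfr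
  have hcard : σ.support.card = 2 ^ v * (Nat.card F ^ (h - 1) * (m * k)) := by
    rw [show σ.support = Finset.univ from Finset.eq_univ_of_forall fun x => Equiv.Perm.mem_support.2 (hmove x),
      Finset.card_univ, ← Nat.card_eq_fintype_card, card_sphere hQ hh hd, ← hT, hk, hnm]
    ring
  rw [hcard, Nat.mul_div_cancel_left _ (by positivity), ((hF.pow).mul (hm.mul hkodd)).neg_one_pow] at hsign
  have hker : s ^ m ∈ (Equiv.Perm.sign.comp (spherePerm Q)).ker :=
    Abelianization.commutator_subset_ker _ (pow_mem hc m)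
  rw [MonoidHom.mem_ker, MonoidHom.comp_apply, ← hσ, hsign] at hker
  exact absurd hker (by decide)

end Cfsg.Agent.H58.SpecNine
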