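import Cfsg.Agent.H58.SpecNine.Regular
import Cfsg.Agent.H55.OrthGraphOdd

/-!
Element orders of `Ω₉` and of the affine extension of `Ω₈⁻`, on abstract spaces.
-/

set_option autoImplicit false
set_option linter.unusedSectionVars false
set_option linter.style.haveILetI false

namespace Cfsg.Agent.H58.SpecNine

open Module QuadraticMap Orthogonal H53 H55 Elusive
open Polynomial (aeval)

universe u v

variable {F : Type u} [Field F] [Finite F] (p : ℕ) [Fact p.Prime] [CharP F p]

section Tools

variable {V : Type v} [AddCommGroup V] [Module F V] [FiniteDimensional F V]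
variable {Q : QuadraticForm F V}

theorem geom_char (L : Module.End F V) (m : ℕ) :
    ∑ i ∈ Finset.range (p ^ m), L ^ i = (L - 1) ^ (p ^ m - 1) := by
  have h : ∑ i ∈ Finset.range (p ^ m), (Polynomial.X : Polynomial F) ^ i =
      (Polynomial.X - 1) ^ (p ^ m - 1) := by
    refine mul_right_cancel₀ (Polynomial.X_sub_C_ne_zero (1 : F)) ?_
    rw [map_one, geom_sum_mul, ← pow_succ, Nat.sub_add_cancel (Nat.one_le_pow _ _ (Fact.out : p.Prime).pos),
      sub_pow_char_pow, one_pow]
  simpa using congrArg (aeval L) h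

/-- A geometric sum over several periods. -/
theorem geom_periods (L : Module.End F V) {P : ℕ} (x : V) (hL : (L ^ P) x = x) (T : ℕ) :
    (∑ i ∈ Finset.range (T * P), L ^ i) x = (T : F) • (∑ i ∈ Finset.range P, L ^ i) x := by
  induction T with
  | zero => simp
  | succ T ih =>
    rw [Nat.succ_mul, Finset.sum_range_add, LinearMap.add_apply, ih, Nat.cast_succ, add_smul, one_smul]
    congr 1
    rw [LinearMap.sum_apply, LinearMap.sum_apply]
    refine Finset.sum_congr rfl fun i _ => ?_
    have hT : ∀ T' : ℕ, (L ^ (T' * P)) x = x := by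
      intro T'
      induction T' with
      | zero => simp
      | succ T' ih' => rw [Nat.succ_mul, pow_add, Module.End.mul_apply, hL, ih']
    rw [add_comm, pow_add, Module.End.mul_apply, hT]

theorem not_dvd_of_cast {n : ℕ} (h : (n : F) ≠ 0) : n.Coprime p := by
  rw [Nat.coprime_comm, (Fact.out : p.Prime).coprime_iff_not_dvd]
  exact fun hd => h ((CharP.cast_eq_zero_iff F p n).2 hd)

/-- Order of a product of commuting elements of coprime orders, one prime to `p`. -/
theorem orderOf_mul_char {G : Type*} [Group G] {a b : G} (hc : Commute a b) (ha : (orderOf a : F) ≠ 0)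
    {m : ℕ} (hb : orderOf b = p ^ m) : orderOf (a * b) = orderOf a * p ^ m := by
  rw [← hb]
  exact hc.orderOf_mul_eq_mul_orderOf_of_coprime (hb ▸ (not_dvd_of_cast p ha).pow_right m)

set_option maxHeartbeats 1000000 in
/-- A semisimple element of the commutator subgroup, on the space it moves. -/
theorem moved (hQ : Nondeg Q) (h2 : (2 : F) ≠ 0) (s : O Q) (hn : (orderOf s : F) ≠ 0)
    (hs : s ∈ commutator (O Q)) :
    Nondeg (restr Q (fixS s)) ∧ Nondeg (restr Q (perp Q (fixS s))) ∧
      Even (finrank F (perp Q (fixS s))) ∧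
      ∃ hW : ∀ x ∈ perp Q (fixS s), (s : V ≃ₗ[F] V) x ∈ perp Q (fixS s),
        (∀ x, (restrictO s hW : perp Q (fixS s) ≃ₗ[F] perp Q (fixS s)) x = x → x = 0) ∧
        restrictO s hW ∈ commutator (O (restr Q (perp Q (fixS s)))) ∧
        orderOf (restrictO s hW) = orderOf s := by
  have hC : Nondeg (restr Q (fixS s)) := (perp_fix hQ s hn (pow_orderOf_eq_one s)).1
  have hWn := hQ.nondeg_perp hC
  have hW := inv_perp s fun x (hx : x ∈ fixS s) => by rw [mem_fixS.1 hx]; exact hx
  have hfix : ∀ x, (restrictO s hW : perp Q (fixS s) ≃ₗ[F] perp Q (fixS s)) x = x → x = 0 := fun x hx => by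
    have : (x : V) ∈ fixS s ⊓ perp Q (fixS s) := ⟨mem_fixS.2 (congrArg Subtype.val hx), x.2⟩
    rw [(nondeg_restr_iff _).1 hC, Submodule.mem_bot] at this
    exact Subtype.ext this
  have hext : extendO hQ hWn (restrictO s hW) = s := by
    refine O.ext_app fun x => ?_
    obtain ⟨a, ha, b, hb, rfl⟩ := Submodule.mem_sup.1
      (show x ∈ perp Q (fixS s) ⊔ perp Q (perp Q (fixS s)) by
        rw [(hQ.isCompl_perp hWn).sup_eq_top]; trivial)
    rw [map_add, map_add, extendO_app_perp hQ hWn _ hb, ← Subtype.coe_mk a ha, extendO_app, restrictO_app]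
    rw [hQ.perp_perp (fixS s)] at hb
    rw [mem_fixS.1 hb]
  have hmem : restrictO s hW ∈ commutator (O (restr Q (perp Q (fixS s)))) := by
    obtain ⟨h1, h2'⟩ := (mem_commutator_iff hQ h2 s).1 hs
    rw [← hext, (spinor_extendO hQ h2 hWn _).2] at h1
    rw [← hext, (spinor_extendO hQ h2 hWn _).1] at h2'
    exact (mem_commutator_iff hWn h2 _).2 ⟨h1, h2'⟩
  refine ⟨hC, hWn, ?_, hW, hfix, hmem, ?_⟩
  · by_contra hodd
    obtain ⟨v, hv0, hv⟩ := exists_fixed_of_det_one hWn h2 (Nat.not_even_iff_odd.1 hodd) (restrictO s hW)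
      ((detSign_eq_one_iff hWn h2 _).1 ((mem_commutator_iff hWn h2 _).1 hmem).1)
    exact hv0 (hfix v hv)
  · conv_rhs => rw [← hext]
    exact (orderOf_injective _ (extendO_injective hQ hWn) _).symm

include p in
theorem sub_one_pow_char (L : Module.End F V) (m : ℕ) : (L - 1) ^ p ^ m = L ^ p ^ m - 1 := by
  have h : ((Polynomial.X : Polynomial F) - 1) ^ p ^ m = Polynomial.X ^ p ^ m - 1 := by
    rw [sub_pow_char_pow, one_pow]
  simpa using congrArg (aeval L) h

include p in
/-- Unipotent maps in small dimension. -/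
theorem pow_char_lt (L : Module.End F V) {m j : ℕ} (hL : L ^ p ^ m = 1) (hj : (L - 1) ^ j ≠ 0) :
    j < finrank F V := by
  by_contra hlt
  rcases subsingleton_or_nontrivial V with hV | hV
  · exact hj (LinearMap.ext fun x => Subsingleton.elim _ _)
  have hnil : IsNilpotent (L - 1) := ⟨p ^ m, by
    rw [sub_one_pow_char p, hL, sub_self]⟩
  have h := LinearMap.aeval_self_charpoly (L - 1)
  rw [hnil.charpoly_eq_X_pow_finrank, map_pow, Polynomial.aeval_X] at h
  exact hj (pow_eq_zero_of_le (by omega) h)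

end Tools

variable {V : Type v} [AddCommGroup V] [Module F V] [FiniteDimensional F V]
variable {W : Type v} [AddCommGroup W] [Module F W] [FiniteDimensional F W]
variable {Q : QuadraticForm F V} {R : QuadraticForm F W}

/-- The translation part of the `orderOf h`-th power of `(v, h)`. -/
noncomputable def osum (h : O Q) : Module.End F V := ∑ i ∈ Finset.range (orderOf h), linHom Q h ^ i

theorem split_order {G : Type*} [Group G] [Finite G] (g : G) :
    ∃ k n : ℕ, orderOf g = n * p ^ k ∧ (n : F) ≠ 0 ∧ orderOf (g ^ p ^ k) = n ∧ orderOf (g ^ n) = p ^ k := by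
  have hpp : p.Prime := Fact.out
  obtain ⟨k, n, hn, ho⟩ := Nat.exists_eq_pow_mul_and_not_dvd (orderOf_pos g).ne' p hpp.ne_one
  have hn0 : n ≠ 0 := fun h => hn (h ▸ dvd_zero p)
  refine ⟨k, n, by rw [ho, mul_comm], fun h => hn ((CharP.cast_eq_zero_iff F p n).1 h), ?_, ?_⟩
  · rw [orderOf_pow_of_dvd (pow_ne_zero _ hpp.ne_zero) ⟨n, ho⟩, ho, Nat.mul_div_cancel_left _ (pow_pos hpp.pos _)]
  · rw [orderOf_pow_of_dvd hn0 ⟨p ^ k, by rw [ho, mul_comm]⟩, ho, Nat.mul_div_cancel _ (Nat.pos_of_ne_zero hn0)]

include p in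
theorem odd_char (h2 : (2 : F) ≠ 0) : Odd p :=
  (Fact.out : p.Prime).odd_of_ne_two fun h => h2 (by
    subst h; simpa using CharP.cast_eq_zero F 2)

include p in
/-- From the affine group to nine dimensions. -/
theorem nine_of_affine (hQ : Nondeg Q) (hF : Odd (Nat.card F)) (hd : finrank F V = 8) (g : O Q)
    (hg : g ∈ commutator (O Q)) (x : V) (hx : osum g x ≠ 0) :
    ∃ y ∈ commutator (O (QuadraticMap.prod Q (QuadraticMap.sq : QuadraticForm F F))), orderOf g * p ∣ orderOf y := by
  have h2 := two_ne_zero_of_odd_card hF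
  haveI : Finite V := Module.finite_of_finite F
  haveI : Finite (O Q) := Finite.of_injective (fun g : O Q => ((g : V ≃ₗ[F] V) : V → V))
    fun a b e => O.ext_app fun x => congrFun e x
  obtain ⟨k, n, ho, hn, hos, -⟩ := split_order (F := F) p g
  set s := g ^ p ^ k
  have hns : (orderOf s : F) ≠ 0 := by rwa [hos]
  obtain ⟨hC, hWn, ⟨w, hw⟩, -⟩ := moved hQ h2 s hns (pow_mem hg _)
  have hfin := hQ.finrank_add_perp (fixS s)
  obtain ⟨a, ha⟩ : Even (finrank F (fixS s)) := ⟨4 - w, by omega⟩
  have hCinv : ∀ y ∈ fixS s, linHom Q g y ∈ fixS s := fun y hy => by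
    rw [mem_fixS] at hy ⊢
    show linHom Q s (linHom Q g y) = linHom Q g y
    rw [← Module.End.mul_apply, ← map_mul, show s * g = g * s from ((Commute.refl g).pow_left _).eq, map_mul,
      Module.End.mul_apply]
    exact congrArg _ hy
  have hsum : ∀ y, osum g y ∈ fixS s := by
    intro y
    rw [mem_fixS]
    have h1 : linHom Q g (osum g y) = osum g y := by
      rw [← sub_eq_zero]
      have h := LinearMap.congr_fun (mul_geom_sum (linHom Q g) (orderOf g)) y
      rw [← map_pow, pow_orderOf_eq_one, map_one, sub_self] at h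
      exact h
    show linHom Q s (osum g y) = _
    have : ∀ i, linHom Q (g ^ i) (osum g y) = osum g y := by
      intro i
      induction i with
      | zero => rw [pow_zero, map_one]; rfl
      | succ i ih => rw [pow_succ, map_mul, Module.End.mul_apply, h1, ih]
    exact this _
  obtain ⟨c, hc, hcne⟩ : ∃ c ∈ fixS s, osum g c ≠ 0 := by
    obtain ⟨c, hc, w, hw, rfl⟩ := Submodule.mem_sup.1
      (show x ∈ fixS s ⊔ perp Q (fixS s) by rw [(hQ.isCompl_perp hC).sup_eq_top]; trivial)
    refine ⟨c, hc, fun h0 => hx ?_⟩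
    have hw' : osum g w ∈ fixS s ⊓ perp Q (fixS s) := by
      refine ⟨hsum w, ?_⟩
      rw [osum, LinearMap.sum_apply]
      have hmemW : ∀ i : ℕ, (linHom Q g ^ i) w ∈ perp Q (fixS s) := by
        intro i
        induction i with
        | zero => simpa using hw
        | succ i ih => rw [pow_succ', Module.End.mul_apply]; exact inv_perp g hCinv _ ih
      exact Submodule.sum_mem _ fun i _ => hmemW i
    rw [(nondeg_restr_iff _).1 hC, Submodule.mem_bot] at hw'
    rw [map_add, h0, hw', add_zero]
  have hk : p ^ k ≤ 2 * a := by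
    have hG : (linHom Q g).restrict hCinv ^ p ^ k = 1 := LinearMap.ext fun y => Subtype.ext (by
      rw [Module.End.pow_restrict, LinearMap.coe_restrict_apply, ← map_pow]
      exact mem_fixS.1 y.2)
    have hlt := pow_char_lt p _ (j := p ^ k - 1) hG fun h0 => hcne (by
      have hP : (linHom Q g ^ p ^ k) c = c := by rw [← map_pow]; exact mem_fixS.1 hc
      rw [osum, ho, geom_periods _ c hP, geom_char p]
      have e := congrArg Subtype.val (LinearMap.congr_fun h0 ⟨c, hc⟩)
      have e' : (linHom Q g).restrict hCinv - 1 =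
          (linHom Q g - 1).restrict (fun y hy => (fixS s).sub_mem (hCinv y hy) hy) := rfl
      rw [e', Module.End.pow_restrict, LinearMap.coe_restrict_apply] at e
      rw [e]
      exact smul_zero _)
    rw [← two_mul] at ha
    omega
  let S : QuadraticForm F F := QuadraticMap.sq
  have hSn : Nondeg (S : QuadraticForm F F) := fun z hz => by
    have := hz 1
    simp [S, polar] at this
    exact (mul_eq_zero.1 (show (2 : F) * z = 0 by linear_combination this)).resolve_left h2
  set Q9 := QuadraticMap.prod Q S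
  have h9 := prod_nondeg hQ hSn
  set s9 : O Q9 := pairO Q S (s, 1)
  have hs9 : s9 ∈ commutator (O Q9) := pairO_left_mem hQ hSn h2 (pow_mem hg _)
  have hs9o : orderOf s9 = n := by
    rw [orderOf_injective _ pairO_injective, Prod.orderOf, orderOf_one, Nat.lcm_one_right, hos]
  have hns9 : (orderOf s9 : F) ≠ 0 := by rwa [hs9o]
  obtain ⟨hC9, hW9, -, hWi, -⟩ := moved h9 h2 s9 hns9 hs9
  have hC9d : finrank F (fixS s9) = 2 * a + 1 := by
    have he : fixS s9 = LinearMap.range ((fixS s).subtype.prodMap (LinearMap.id : F →ₗ[F] F)) := by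
      ext ⟨y, z⟩
      rw [mem_fixS, pairO_app, LinearMap.mem_range]
      constructor
      · intro h
        exact ⟨(⟨y, mem_fixS.2 (congrArg Prod.fst h)⟩, z), rfl⟩
      · rintro ⟨⟨⟨y', hy'⟩, z'⟩, h⟩
        obtain ⟨rfl, rfl⟩ := Prod.mk.inj h
        exact Prod.ext (mem_fixS.1 hy') rfl
    rw [he, LinearMap.finrank_range_of_inj ((Submodule.injective_subtype _).prodMap Function.injective_id),
      Module.finrank_prod, Module.finrank_self, ha, ← two_mul]
  obtain ⟨z₀, ⟨m₀, hm₀⟩, hz₀⟩ := exists_regular p h2 hC9 hC9d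
  obtain ⟨m, -, hm⟩ := (Nat.dvd_prime_pow (Fact.out : p.Prime)).1 (orderOf_dvd_of_pow_eq_one hm₀)
  have hbig : p ^ (k + 1) ∣ p ^ m := by
    refine pow_dvd_pow _ ?_
    by_contra hlt
    haveI : Nontrivial (fixS s9) := Module.finrank_pos_iff.1 (by rw [hC9d]; omega : 0 < finrank F (fixS s9))
    have h0 : (linHom _ z₀ - 1) ^ p ^ m = 0 := by
      rw [sub_one_pow_char p, ← map_pow, ← hm, pow_orderOf_eq_one, map_one]
      exact LinearMap.ext fun y => sub_self _
    exact hz₀ (pow_eq_zero_of_le
      ((Nat.pow_le_pow_right (Fact.out : p.Prime).pos (by omega : m ≤ k)).trans hk) h0)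
  set z := extendO h9 hC9 z₀
  have hzc : z ∈ commutator (O Q9) := by
    refine mem_commutator_of_odd h9 (by rw [Module.finrank_prod, hd, Module.finrank_self]; norm_num)
      ((odd_char p h2).pow (n := m)) z ?_
    rw [← map_pow, ← hm, pow_orderOf_eq_one, map_one]
  have hcomm : Commute s9 z := by
    refine O.ext_app fun y => ?_
    obtain ⟨c, hc, w, hw, rfl⟩ := Submodule.mem_sup.1
      (show y ∈ fixS s9 ⊔ perp Q9 (fixS s9) by rw [(h9.isCompl_perp hC9).sup_eq_top]; trivial)
    rw [Subgroup.coe_mul, Subgroup.coe_mul, mul_app, mul_app, map_add, map_add, map_add, map_add,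
      extendO_app_perp h9 hC9 _ hw, extendO_app_perp h9 hC9 _ (hWi w hw), mem_fixS.1 hc,
      ← Subtype.coe_mk c hc, extendO_app, mem_fixS.1 (Subtype.coe_prop _)]
  refine ⟨s9 * z, mul_mem hs9 hzc, ?_⟩
  rw [orderOf_mul_char p hcomm hns9 ((orderOf_injective _ (extendO_injective h9 hC9) z₀).trans hm), hs9o, ho,
    mul_assoc, ← pow_succ]
  exact Nat.mul_dvd_mul_left _ hbig

set_option maxHeartbeats 1000000 in
include p in
/-- From nine dimensions to the affine group. -/
theorem affine_of_nine (hR : Nondeg R) (hQ : Nondeg Q) (hF : Odd (Nat.card F)) (hd : finrank F V = 8)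
    (hs : sg Q = -1) (hd9 : finrank F W = 9) (g : O R) (hg : g ∈ commutator (O R)) :
    ∃ h ∈ commutator (O Q), orderOf g ∣ orderOf h ∨ ∃ x, osum h x ≠ 0 ∧ orderOf g ∣ orderOf h * p := by
  have h2 := two_ne_zero_of_odd_card hF
  have hpp : p.Prime := Fact.out
  haveI : Finite W := Module.finite_of_finite F
  haveI : Finite (O R) := Finite.of_injective (fun g : O R => ((g : W ≃ₗ[F] W) : W → W))
    fun a b e => O.ext_app fun x => congrFun e x
  obtain ⟨k, n, ho, hn, hos, hou⟩ := split_order (F := F) p g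
  set s := g ^ p ^ k
  set u := g ^ n
  have hcsu : Commute s u := Commute.pow_pow_self g _ _
  have hns : (orderOf s : F) ≠ 0 := by rwa [hos]
  obtain ⟨hC, hWn, ⟨H, hH⟩, hWi, hfix, hmem, hord⟩ := moved hR h2 s hns (pow_mem hg _)
  rw [← two_mul] at hH
  have hH4 : H ≤ 4 := by have := hR.finrank_add_perp (fixS s); omega
  have hCd : finrank F (fixS s) + 2 * H = 9 := by have := hR.finrank_add_perp (fixS s); omega
  have hGood : Good (Nat.card F) H n := by
    rw [← hos, ← hord]
    exact good_of_commutator hWn hF hH hH4 _ (by rwa [hord]) hfix hmem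
  rcases k with _ | k
  · obtain ⟨t, ht, htn, -⟩ := exists_wit p hF hQ hd hs hH4 hGood
    exact ⟨t, ht, Or.inl (by rwa [ho, pow_zero, mul_one])⟩
  set j := p ^ k
  have hjo : Odd j := (odd_char p h2).pow
  have huj : u ^ j ≠ 1 := fun h1 => by
    have := Nat.le_of_dvd (pow_pos hpp.pos _) (orderOf_dvd_of_pow_eq_one h1)
    rw [hou] at this
    exact absurd this (Nat.pow_lt_pow_right hpp.one_lt (Nat.lt_succ_self k)).not_ge
  obtain ⟨a', ha4, hja, hG'⟩ : ∃ a', a' ≤ 4 ∧ j + 1 ≤ 2 * a' ∧ Good (Nat.card F) (4 - a') n := by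
    have hCu : ∀ x ∈ fixS s, linHom R u x ∈ fixS s := fun x hx => by
      rw [mem_fixS] at hx ⊢
      show linHom R s (linHom R u x) = linHom R u x
      rw [← Module.End.mul_apply, ← map_mul, hcsu.eq, map_mul, Module.End.mul_apply]
      exact congrArg _ hx
    by_cases hC1 : ∀ x ∈ fixS s, ((u ^ j : O R) : W ≃ₗ[F] W) x = x
    swap
    · refine ⟨4 - H, by omega, ?_, by rwa [show 4 - (4 - H) = H by omega]⟩
      push Not at hC1
      obtain ⟨x, hx, hxne⟩ := hC1
      haveI : Nontrivial (fixS s) := Module.finrank_pos_iff.1 (by omega : 0 < finrank F (fixS s))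
      set G := (linHom R u).restrict hCu
      have hGp : ∀ (i : ℕ) (y : fixS s), ((G ^ i) y : W) = linHom R (u ^ i) y := fun i y => by
        rw [Module.End.pow_restrict, LinearMap.coe_restrict_apply, ← map_pow]
      have hlt := pow_char_lt p G (m := k + 1) (j := j)
        (LinearMap.ext fun y => Subtype.ext (by rw [hGp, ← hou, pow_orderOf_eq_one, map_one]; rfl))
        (fun h0 => hxne (by
          rw [sub_one_pow_char p, sub_eq_zero] at h0
          have := congrArg Subtype.val (LinearMap.congr_fun h0 ⟨x, hx⟩)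
          rw [hGp] at this
          exact this))
      obtain ⟨i, hi⟩ := hjo
      omega
    have hWu := inv_perp u hCu
    set r := restrictO u hWu
    have hrp : r ^ (p ^ (k + 1)) = 1 := O.ext_app fun y => Subtype.ext (by
      rw [restrictO_pow_app, ← hou, pow_orderOf_eq_one]; rfl)
    have hrj : r ^ j ≠ 1 := fun h1 => huj (O.ext_app fun y => by
      obtain ⟨c, hc, w, hw, rfl⟩ := Submodule.mem_sup.1
        (show y ∈ fixS s ⊔ perp R (fixS s) by rw [(hR.isCompl_perp hC).sup_eq_top]; trivial)
      have := restrictO_pow_app u hWu j ⟨w, hw⟩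
      rw [h1] at this
      rw [map_add, hC1 c hc, ← this]
      rfl)
    have hW0 : 0 < finrank F (perp R (fixS s)) := by
      rw [Nat.pos_iff_ne_zero]
      intro h0
      haveI : Subsingleton (perp R (fixS s)) := Module.finrank_zero_iff.1 h0
      exact hrj (O.ext_app fun y => Subsingleton.elim _ _)
    haveI : Nontrivial (perp R (fixS s)) := Module.finrank_pos_iff.1 hW0
    set L := linHom (restr R (perp R (fixS s))) with hL
    have hNf : L r - L r⁻¹ = (L (r ^ 2) - 1) * L r⁻¹ := by
      rw [sub_mul, one_mul, ← map_mul, pow_two, mul_assoc, mul_inv_cancel, mul_one]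
    have hNc : Commute (L (r ^ 2) - 1) (L r⁻¹) :=
      (((((Commute.refl r).inv_right).pow_left 2)).map L).sub_left (Commute.one_left _)
    have hNpow : ∀ i, (L r - L r⁻¹) ^ p ^ i = (L (r ^ (2 * p ^ i)) - 1) * L r⁻¹ ^ p ^ i := by
      intro i
      rw [hNf, hNc.mul_pow, sub_one_pow_char p, ← map_pow L (r ^ 2),
        ← pow_mul]
    have hskew : Skew (restr R (perp R (fixS s))) (L r - L r⁻¹) := fun x y => by
      have e : ∀ g : O (restr R (perp R (fixS s))),
          polar (restr R (perp R (fixS s))) (L g x) y = polar (restr R (perp R (fixS s))) x (L g⁻¹ y) := fun g => by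
        have h := polar_linHom g x (L g⁻¹ y)
        rw [← Module.End.mul_apply, ← map_mul, mul_inv_cancel, map_one, Module.End.one_apply] at h
        exact h
      rw [LinearMap.sub_apply, LinearMap.sub_apply, polar_sub_left, polar_sub_right, e, e, inv_inv, neg_sub]
    have hcomm : Commute (L (restrictO s hWi)) (L r - L r⁻¹) := by
      have hc' : Commute (restrictO s hWi) r := O.ext_app fun y => Subtype.ext (by
        rw [Subgroup.coe_mul, Subgroup.coe_mul, mul_app, mul_app]
        show (s : W ≃ₗ[F] W) ((u : W ≃ₗ[F] W) y) = (u : W ≃ₗ[F] W) ((s : W ≃ₗ[F] W) y)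
        rw [← mul_app, ← mul_app, ← Subgroup.coe_mul, ← Subgroup.coe_mul, hcsu.eq])
      exact (hc'.map L).sub_right (hc'.inv_right.map L)
    have hNj : (L r - L r⁻¹) ^ j ≠ 0 := fun h0 => hrj (by
      rw [hNpow] at h0
      have h1 : L (r ^ (2 * j)) = L 1 := by
        rw [map_one, ← sub_eq_zero]
        have hu' : L r⁻¹ ^ p ^ k * L r ^ p ^ k = 1 := by
          rw [← map_pow, ← map_pow, ← map_mul, inv_pow, inv_mul_cancel, map_one]
        calc L (r ^ (2 * j)) - 1 = (L (r ^ (2 * p ^ k)) - 1) * (L r⁻¹ ^ p ^ k * L r ^ p ^ k) := by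
              rw [hu', mul_one]
          _ = 0 := by rw [← mul_assoc, h0, zero_mul]
      have h1' : r ^ (2 * j) = 1 := linHom_injective h1
      have hd2 := Nat.dvd_gcd (orderOf_dvd_of_pow_eq_one h1') (orderOf_dvd_of_pow_eq_one hrp)
      rw [Nat.Coprime.gcd_mul_left_cancel j
        ((Nat.coprime_two_left.2 (odd_char p h2)).pow_right (k + 1)),
        Nat.gcd_eq_left (pow_dvd_pow p k.le_succ)] at hd2
      exact orderOf_dvd_iff_pow_eq_one.1 hd2)
    obtain ⟨hle, hGood'⟩ := good_of_skew hWn hF hH (by omega) hH4 (restrictO s hWi) (by rwa [hord]) hfix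
      (L r - L r⁻¹) hskew hcomm ⟨p ^ (k + 1), by
        rw [hNpow, mul_comm 2, pow_mul, hrp, one_pow, map_one, sub_self, zero_mul]⟩ hjo hNj
    refine ⟨(j + 1) / 2, by omega, ?_, by rwa [hord, hos] at hGood'⟩
    obtain ⟨i, hi⟩ := hjo
    omega
  obtain ⟨t, ht, htn, htp, C, c, hCn, hCd', hc4, hCfix⟩ := exists_wit p hF hQ hd hs (by omega) hG'
  -- a regular unipotent on a hyperplane of `C`
  obtain ⟨e, he⟩ : ∃ e, restr Q C e ≠ 0 := by
    by_contra hall
    push Not at hall
    haveI : Nontrivial C := Module.finrank_pos_iff.1 (by omega : 0 < finrank F C)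
    obtain ⟨y, hy⟩ := exists_ne (0 : C)
    exact hy (hCn y fun y' => by simp [polar, hall])
  have hln : Nondeg (restr (restr Q C) (Submodule.span F {e})) := by
    intro x hx
    obtain ⟨b, hb⟩ := Submodule.mem_span_singleton.1 x.2
    have hb0 : b = 0 := by
      have := hx ⟨e, Submodule.mem_span_singleton_self e⟩
      rw [polar_restr, ← hb, polar_smul_left', polar_self'] at this
      exact (mul_eq_zero.1 this).resolve_right (mul_ne_zero h2 he)
    exact Subtype.ext (by rw [← hb, hb0, zero_smul]; rfl)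
  set X := perp (restr Q C) (Submodule.span F {e})
  have hXn : Nondeg (restr (restr Q C) X) := hCn.nondeg_perp hln
  have hXd : finrank F X = 2 * (c - 1) + 1 := by
    have h1 : finrank F (Submodule.span F {e}) + finrank F X = finrank F C := hCn.finrank_add_perp _
    have h2' : finrank F (Submodule.span F {e}) = 1 := finrank_span_singleton fun h0 => he (by rw [h0, QuadraticMap.map_zero])
    omega
  obtain ⟨z₀, ⟨m₀, hm₀⟩, hz₀⟩ := exists_regular p h2 hXn hXd
  obtain ⟨m, -, hm⟩ := (Nat.dvd_prime_pow hpp).1 (orderOf_dvd_of_pow_eq_one hm₀)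
  set z := extendO hQ hCn (extendO hCn hXn z₀)
  have hzo : orderOf z = p ^ m :=
    (orderOf_injective _ (extendO_injective hQ hCn) _).trans
      ((orderOf_injective _ (extendO_injective hCn hXn) _).trans hm)
  have hzc : z ∈ commutator (O Q) :=
    mem_commutator_of_odd hQ (by omega) ((odd_char p h2).pow (n := m)) z (hzo ▸ pow_orderOf_eq_one z)
  have htW := inv_perp t fun y (hy : y ∈ C) => by rw [hCfix y hy]; exact hy
  have hcomm : Commute t z := by
    refine O.ext_app fun y => ?_
    obtain ⟨b, hb, w, hw, rfl⟩ := Submodule.mem_sup.1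
      (show y ∈ C ⊔ perp Q C by rw [(hQ.isCompl_perp hCn).sup_eq_top]; trivial)
    rw [Subgroup.coe_mul, Subgroup.coe_mul, mul_app, mul_app, map_add, map_add, map_add, map_add,
      extendO_app_perp hQ hCn _ hw, extendO_app_perp hQ hCn _ (htW w hw), hCfix b hb,
      ← Subtype.coe_mk b hb, extendO_app, hCfix _ (Subtype.coe_prop _)]
  have hho : orderOf (t * z) = orderOf t * p ^ m := orderOf_mul_char p hcomm htp hzo
  refine ⟨t * z, mul_mem ht hzc, ?_⟩
  by_cases hkm : k + 1 ≤ m
  · left
    rw [hho, ho]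
    exact Nat.mul_dvd_mul htn (pow_dvd_pow _ hkm)
  right
  haveI : Nontrivial X := Module.finrank_pos_iff.1 (by omega : 0 < finrank F X)
  have hPbig : 2 * (c - 1) < p ^ m := by
    by_contra hle
    refine hz₀ (pow_eq_zero_of_le (not_lt.1 hle) ?_)
    rw [sub_one_pow_char p, ← map_pow, ← hm, pow_orderOf_eq_one, map_one]
    exact LinearMap.ext fun y => sub_self _
  have hmk : m = k := by
    refine le_antisymm (by omega) (not_lt.1 fun hlt => ?_)
    have h1 : p ^ (m + 1) ≤ j := Nat.pow_le_pow_right hpp.pos hlt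
    have h2' : p ^ m * 2 ≤ p ^ (m + 1) := by rw [pow_succ]; exact Nat.mul_le_mul_left _ hpp.two_le
    omega
  obtain ⟨x, hx⟩ : ∃ x : X, ((linHom _ z₀ - 1) ^ (p ^ m - 1)) x ≠ 0 := by
    by_contra hall
    push Not at hall
    have hle : p ^ m - 1 ≤ 2 * (c - 1) := by rw [hmk]; show j - 1 ≤ _; omega
    exact hz₀ (pow_eq_zero_of_le hle (LinearMap.ext hall))
  refine ⟨((x : C) : V), ?_, ?_⟩
  · have hstep : ∀ y : X, linHom Q (t * z) ((y : C) : V) = (((linHom _ z₀ y : X) : C) : V) := by
      intro y
      rw [map_mul, Module.End.mul_apply, linHom_apply, linHom_apply, extendO_app, extendO_app,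
        hCfix _ (Subtype.coe_prop _)]
      rfl
    have hsub : ∀ (i : ℕ) (y : X), ((linHom Q (t * z) - 1) ^ i) ((y : C) : V) =
        ((((linHom _ z₀ - 1) ^ i) y : X) : C) := by
      intro i
      induction i with
      | zero => intro y; rfl
      | succ i ih =>
        intro y
        rw [pow_succ, Module.End.mul_apply, pow_succ, Module.End.mul_apply]
        rw [← ih]
        congr 1
        rw [LinearMap.sub_apply, hstep]
        rfl
    have hper : ((linHom Q (t * z)) ^ p ^ m) ((x : C) : V) = ((x : C) : V) := by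
      have hpw : ∀ (i : ℕ) (y : X), (linHom Q (t * z) ^ i) ((y : C) : V) =
          ((((linHom _ z₀) ^ i) y : X) : C) := by
        intro i
        induction i with
        | zero => intro y; rfl
        | succ i ih => intro y; rw [pow_succ, Module.End.mul_apply, hstep, ih, pow_succ, Module.End.mul_apply]
      rw [hpw, ← map_pow, ← hm, pow_orderOf_eq_one, map_one]
      rfl
    rw [osum, hho, geom_periods _ _ hper, geom_char p, hsub]
    refine smul_ne_zero htp fun h0 => hx (Subtype.ext (Subtype.ext ?_))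
    exact h0
  · rw [hho, ho, mul_assoc, ← pow_succ, hmk]
    exact Nat.mul_dvd_mul htn dvd_rfl

end Cfsg.Agent.H58.SpecNine
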