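import Cfsg.Agent.H58.Elusive.Sign
import Cfsg.Agent.H58.Elusive.Build
import Cfsg.Agent.Orthogonal.Spinor

/-!
Orthogonal groups of orthogonal sums, with spinor norm and sign.
-/

set_option autoImplicit false
set_option linter.unusedSectionVars false
set_option linter.style.haveILetI false

namespace Cfsg.Agent.H58.SpecNine

open Module QuadraticMap Orthogonal Elusive

variable {F A B : Type*} [Field F] [AddCommGroup A] [Module F A] [AddCommGroup B] [Module F B]
variable {P : QuadraticForm F A} {R : QuadraticForm F B}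

/-- Componentwise action on an orthogonal sum. -/
def pairO (P : QuadraticForm F A) (R : QuadraticForm F B) :
    O P × O R →* O (QuadraticMap.prod P R) where
  toFun g := ⟨(g.1 : A ≃ₗ[F] A).prodCongr (g.2 : B ≃ₗ[F] B), fun x => by
    simp [QuadraticMap.prod_apply, O.map_app]⟩
  map_one' := O.ext_app fun x => rfl
  map_mul' _ _ := O.ext_app fun x => rfl

theorem pairO_app (g : O P × O R) (x : A × B) :
    (pairO P R g : (A × B) ≃ₗ[F] (A × B)) x = ((g.1 : A ≃ₗ[F] A) x.1, (g.2 : B ≃ₗ[F] B) x.2) := rfl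

theorem pairO_injective : Function.Injective (pairO P R) := by
  intro g h e
  refine Prod.ext (O.ext_app fun a => ?_) (O.ext_app fun b => ?_)
  · exact congrArg Prod.fst (congrArg (fun u : O (QuadraticMap.prod P R) => (u : (A × B) ≃ₗ[F] (A × B)) (a, 0)) e)
  · exact congrArg Prod.snd (congrArg (fun u : O (QuadraticMap.prod P R) => (u : (A × B) ≃ₗ[F] (A × B)) (0, b)) e)

theorem polar_prod (x y : A × B) :
    polar (QuadraticMap.prod P R) x y = polar P x.1 y.1 + polar R x.2 y.2 := by
  simp only [polar, QuadraticMap.prod_apply, Prod.fst_add, Prod.snd_add]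
  ring

theorem prod_nondeg (hP : Nondeg P) (hR : Nondeg R) : Nondeg (QuadraticMap.prod P R) := by
  intro x hx
  refine Prod.ext (hP _ fun a => ?_) (hR _ fun b => ?_)
  · simpa [polar_prod] using hx (a, 0)
  · simpa [polar_prod] using hx (0, b)

theorem pairO_rO_left (v : A) : pairO P R (rO P v, 1) = rO (QuadraticMap.prod P R) (v, 0) := by
  refine O.ext_app fun x => ?_
  rw [pairO_app, rO_app, rO_app, polar_prod]
  refine Prod.ext ?_ ?_ <;> simp

theorem pairO_rO_right (w : B) : pairO P R (1, rO R w) = rO (QuadraticMap.prod P R) (0, w) := by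
  refine O.ext_app fun x => ?_
  rw [pairO_app, rO_app, rO_app, polar_prod]
  refine Prod.ext ?_ ?_ <;> simp

variable [Finite F] [FiniteDimensional F A] [FiniteDimensional F B]

theorem spinor_pairO (hP : Nondeg P) (hR : Nondeg R) (h2 : (2 : F) ≠ 0) (g : O P × O R) :
    spinor (QuadraticMap.prod P R) (prod_nondeg hP hR) h2 (pairO P R g) =
      spinor P hP h2 g.1 * spinor R hR h2 g.2 ∧
    detSign (QuadraticMap.prod P R) (prod_nondeg hP hR) h2 (pairO P R g) =
      detSign P hP h2 g.1 * detSign R hR h2 g.2 := by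
  have hg : pairO P R g = (pairO P R).comp (MonoidHom.inl _ _) g.1 * (pairO P R).comp (MonoidHom.inr _ _) g.2 := by
    rw [MonoidHom.comp_apply, MonoidHom.comp_apply, ← map_mul]
    congr 1
  have v0 : ∀ {v : A}, P v ≠ 0 → QuadraticMap.prod P R (v, 0) ≠ 0 := fun h => by simpa [QuadraticMap.prod_apply] using h
  have w0 : ∀ {w : B}, R w ≠ 0 → QuadraticMap.prod P R (0, w) ≠ 0 := fun h => by simpa [QuadraticMap.prod_apply] using h
  constructor
  · have e1 : (spinor _ (prod_nondeg hP hR) h2).comp ((pairO P R).comp (MonoidHom.inl _ _)) = spinor P hP h2 :=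
      hom_ext_rO hP h2 fun v hv => by
        rw [MonoidHom.comp_apply, MonoidHom.comp_apply, MonoidHom.inl_apply, pairO_rO_left, spinor_rO hP h2 hv,
          spinor_rO _ h2 (v0 hv)]
        simp [QuadraticMap.prod_apply]
    have e2 : (spinor _ (prod_nondeg hP hR) h2).comp ((pairO P R).comp (MonoidHom.inr _ _)) = spinor R hR h2 :=
      hom_ext_rO hR h2 fun w hw => by
        rw [MonoidHom.comp_apply, MonoidHom.comp_apply, MonoidHom.inr_apply, pairO_rO_right, spinor_rO hR h2 hw,
          spinor_rO _ h2 (w0 hw)]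
        simp [QuadraticMap.prod_apply]
    rw [hg, map_mul, ← DFunLike.congr_fun e1 g.1, ← DFunLike.congr_fun e2 g.2]
    rfl
  · have e1 : (detSign _ (prod_nondeg hP hR) h2).comp ((pairO P R).comp (MonoidHom.inl _ _)) = detSign P hP h2 :=
      hom_ext_rO hP h2 fun v hv => by
        rw [MonoidHom.comp_apply, MonoidHom.comp_apply, MonoidHom.inl_apply, pairO_rO_left, detSign_rO hP h2 hv,
          detSign_rO _ h2 (v0 hv)]
    have e2 : (detSign _ (prod_nondeg hP hR) h2).comp ((pairO P R).comp (MonoidHom.inr _ _)) = detSign R hR h2 :=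
      hom_ext_rO hR h2 fun w hw => by
        rw [MonoidHom.comp_apply, MonoidHom.comp_apply, MonoidHom.inr_apply, pairO_rO_right, detSign_rO hR h2 hw,
          detSign_rO _ h2 (w0 hw)]
    rw [hg, map_mul, ← DFunLike.congr_fun e1 g.1, ← DFunLike.congr_fun e2 g.2]
    rfl

theorem pairO_mem_commutator (hP : Nondeg P) (hR : Nondeg R) (h2 : (2 : F) ≠ 0) {g : O P × O R}
    (hd : detSign P hP h2 g.1 * detSign R hR h2 g.2 = 1)
    (hs : spinor P hP h2 g.1 * spinor R hR h2 g.2 = 1) :
    pairO P R g ∈ commutator (O (QuadraticMap.prod P R)) := by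
  rw [mem_commutator_iff (prod_nondeg hP hR) h2, (spinor_pairO hP hR h2 g).1, (spinor_pairO hP hR h2 g).2]
  exact ⟨hd, hs⟩

theorem pairO_left_mem (hP : Nondeg P) (hR : Nondeg R) (h2 : (2 : F) ≠ 0) {g : O P}
    (hg : g ∈ commutator (O P)) : pairO P R (g, 1) ∈ commutator (O (QuadraticMap.prod P R)) := by
  obtain ⟨hd, hs⟩ := (mem_commutator_iff hP h2 g).1 hg
  exact pairO_mem_commutator hP hR h2 (by simp [hd]) (by simp [hs])

theorem sg_prod (hP : Nondeg P) (hR : Nondeg R) (hA : Even (finrank F A)) (hB : Even (finrank F B)) :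
    sg (QuadraticMap.prod P R) = sg P * sg R := by
  set eA := LinearEquiv.ofInjective (LinearMap.inl F A B) LinearMap.inl_injective
  set eB := LinearEquiv.ofInjective (LinearMap.inr F A B) LinearMap.inr_injective
  have hA' : sg (restr (QuadraticMap.prod P R) (LinearMap.range (LinearMap.inl F A B))) = sg P :=
    (sg_congr eA fun x => by simp [eA, restr, QuadraticMap.prod_apply]).symm
  have hB' : sg (restr (QuadraticMap.prod P R) (LinearMap.range (LinearMap.inr F A B))) = sg R :=
    (sg_congr eB fun x => by simp [eB, restr, QuadraticMap.prod_apply]).symm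
  rw [← hA', ← hB']
  refine sg_sum (prod_nondeg hP hR) LinearMap.isCompl_range_inl_inr ?_ ?_ ?_
    (by rw [← eA.finrank_eq]; exact hA) (by rw [← eB.finrank_eq]; exact hB)
  · rintro - ⟨a, rfl⟩ - ⟨b, rfl⟩
    simp [polar_prod]
  · intro x hx
    obtain ⟨a, rfl⟩ := eA.surjective x
    rw [hP a fun b => ?_, map_zero]
    have := hx (eA b)
    simpa [polar_restr, eA, polar_prod] using this
  · intro x hx
    obtain ⟨a, rfl⟩ := eB.surjective x
    rw [hR a fun b => ?_, map_zero]
    have := hx (eB b)
    simpa [polar_restr, eB, polar_prod] using this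

omit [Finite F] [FiniteDimensional F A] [FiniteDimensional F B] in
theorem congrO_mem_commutator {Q : QuadraticForm F A} {Q' : QuadraticForm F B} (e : A ≃ₗ[F] B)
    (he : ∀ x, Q' (e x) = Q x) {g : O Q} (hg : g ∈ commutator (O Q)) :
    congrO e he g ∈ commutator (O Q') :=
  Subgroup.commutator_mono le_top le_top
    (Subgroup.map_commutator ⊤ ⊤ (congrO e he).toMonoidHom ▸ Subgroup.mem_map_of_mem _ hg)

end Cfsg.Agent.H58.SpecNine
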