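import Cfsg.Agent.H58.SpecNine.Witness

/-!
Regular unipotent isometries of odd-dimensional spaces.
-/

set_option autoImplicit false
set_option linter.unusedSectionVars false
set_option linter.style.haveILetI false

namespace Cfsg.Agent.H58.SpecNine

open Module QuadraticMap Orthogonal H53 H55
open Polynomial (X)

universe u v

variable {F : Type u} [Field F] [Finite F] (p : ℕ) [Fact p.Prime] [CharP F p]

include p in
theorem exists_regular (h2 : (2 : F) ≠ 0) {V : Type v} [AddCommGroup V] [Module F V]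
    [FiniteDimensional F V] {Q : QuadraticForm F V} (hQ : Nondeg Q) {b : ℕ} (hd : finrank F V = 2 * b + 1) :
    ∃ z : O Q, (∃ m : ℕ, z ^ p ^ m = 1) ∧ (linHom Q z - 1) ^ (2 * b) ≠ 0 := by
  set f : Polynomial F := (X : Polynomial F) ^ (2 * b + 1) with hf0
  have hf : f.Monic := Polynomial.monic_X_pow _
  let pb := AdjoinRoot.powerBasis' hf
  have hdim : pb.dim = 2 * b + 1 := by simp [pb, f]
  set t := AdjoinRoot.root f with ht
  have ht0 : t ^ (2 * b + 1) = 0 := by
    rw [ht, ← AdjoinRoot.mk_X, ← map_pow, AdjoinRoot.mk_self]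
  let σ : AdjoinRoot f →ₐ[F] AdjoinRoot f :=
    AdjoinRoot.liftAlgHom f (Algebra.ofId F _) (-t) (by
      simp only [f, Polynomial.eval₂_pow, Polynomial.eval₂_X]
      rw [neg_pow, ht0, mul_zero])
  have hσt : σ t = -t := AdjoinRoot.liftAlgHom_root _ _ _ _
  have hσσ : ∀ a, σ (σ a) = a := fun a => by
    have : σ.comp σ = AlgHom.id F _ := AdjoinRoot.algHom_ext (by
      rw [AlgHom.comp_apply, ← ht, hσt, map_neg, hσt, neg_neg, AlgHom.id_apply])
    exact AlgHom.congr_fun this a
  let top : Fin pb.dim := ⟨2 * b, by omega⟩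
  let φ : AdjoinRoot f →ₗ[F] F := pb.basis.coord top
  have hb : ∀ i, pb.basis i = t ^ (i : ℕ) := fun i => by rw [pb.coe_basis]; rfl
  have hφb : ∀ i, φ (pb.basis i) = if (i : ℕ) = 2 * b then 1 else 0 := fun i => by
    show pb.basis.coord _ _ = _
    rw [Module.Basis.coord_apply, Module.Basis.repr_self, Finsupp.single_apply]
    simp [Fin.ext_iff, top]
  have heven : ∀ a, φ (σ a) = φ a := by
    intro a
    have : φ.comp σ.toLinearMap = φ := pb.basis.ext fun i => by
      rw [LinearMap.comp_apply, AlgHom.toLinearMap_apply, hb, map_pow, hσt, neg_pow]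
      rcases Nat.even_or_odd (i : ℕ) with e | e
      · rw [e.neg_one_pow, one_mul]
      · rw [e.neg_one_pow, neg_one_mul, map_neg, ← hb, hφb]
        split_ifs with h
        · obtain ⟨k, hk⟩ := e; omega
        · rw [neg_zero]
    exact LinearMap.congr_fun this a
  have hnd : ∀ a, (∀ c, φ (a * c) = 0) → a = 0 := by
    intro a ha
    apply pb.basis.repr.injective
    rw [map_zero]
    ext i
    rw [Finsupp.zero_apply]
    induction hi : (i : ℕ) using Nat.strong_induction_on generalizing i with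
    | _ j ih =>
      have h := ha (t ^ (2 * b - j))
      rw [← pb.basis.sum_repr a, Finset.sum_mul, map_sum, Finset.sum_eq_single i] at h
      · rw [Algebra.smul_mul_assoc, map_smul, hb, ← pow_add,
          show (i : ℕ) + (2 * b - j) = ((top : Fin pb.dim) : ℕ) by
            have := i.isLt; simp only [top]; omega, ← hb, hφb] at h
        simpa [top] using h
      · intro i' _ hne
        rw [Algebra.smul_mul_assoc, map_smul, hb, ← pow_add]
        by_cases hlt : (i' : ℕ) < j
        · rw [ih _ hlt i' rfl, zero_smul]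
        · have : (i' : ℕ) ≠ j := fun e => hne (Fin.ext (e.trans hi.symm))
          have := i.isLt
          rw [show (i' : ℕ) + (2 * b - j) = (2 * b + 1) + ((i' : ℕ) + (2 * b - j) - (2 * b + 1)) by omega,
            pow_add, ht0, zero_mul, map_zero, smul_zero]
      · simp
  let P : OrthAlg F (AdjoinRoot f) := ⟨σ, φ, hσσ, heven, hnd⟩
  haveI : FiniteDimensional F (AdjoinRoot f) := pb.finite
  have hfr : finrank F (AdjoinRoot f) = 2 * b + 1 := by rw [pb.finrank, hdim]
  haveI : Nontrivial (AdjoinRoot f) := Module.nontrivial_of_finrank_pos (R := F) (by rw [hfr]; omega)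
  have : CharP (AdjoinRoot f) p :=
    charP_of_injective_algebraMap (algebraMap F (AdjoinRoot f)).injective p
  obtain ⟨w, hw⟩ : ∃ w : AdjoinRoot f, w * (1 - t) = 1 :=
    (isUnit_iff_exists_inv'.1 (IsNilpotent.isUnit_one_sub ⟨2 * b + 1, ht0⟩))
  have hw' : σ w * (1 + t) = 1 := by
    have := congrArg σ hw
    rwa [map_mul, map_sub, map_one, hσt, sub_neg_eq_add] at this
  set u := (1 + t) * w with hudef
  have hu : u * P.σ u = 1 := by
    show u * σ u = 1
    rw [hudef, map_mul, map_add, map_one, hσt]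
    linear_combination (σ w * (1 + t)) * hw + hw'
  have hu1 : u - 1 = 2 * t * w := by rw [hudef]; linear_combination hw
  have hne : (u - 1) ^ (2 * b) ≠ 0 := by
    intro h0
    rw [hu1, mul_pow, mul_pow] at h0
    have hz : ((2 : F) ^ (2 * b)) • (pb.basis top) = 0 := by
      rw [hb, show ((top : Fin pb.dim) : ℕ) = 2 * b from rfl, Algebra.smul_def, map_pow, map_ofNat]
      calc (2 : AdjoinRoot f) ^ (2 * b) * t ^ (2 * b)
          = 2 ^ (2 * b) * t ^ (2 * b) * (w ^ (2 * b) * (1 - t) ^ (2 * b)) := by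
            rw [← mul_pow w, hw, one_pow, mul_one]
        _ = 2 ^ (2 * b) * t ^ (2 * b) * w ^ (2 * b) * (1 - t) ^ (2 * b) := by ring
        _ = 0 := by rw [h0, zero_mul]
    exact (smul_eq_zero.1 hz).elim (pow_ne_zero _ h2) (pb.basis.ne_zero _)
  have hup : u ^ p ^ (2 * b + 1) = 1 := by
    have hle : 2 * b + 1 ≤ p ^ (2 * b + 1) := (Nat.lt_pow_self (Fact.out : p.Prime).one_lt).le
    have h0 : (u - 1) ^ p ^ (2 * b + 1) = 0 := by
      rw [hu1]
      refine pow_eq_zero_of_le hle ?_
      rw [mul_pow, mul_pow, ht0, mul_zero, zero_mul]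
    rw [sub_pow_char_pow, one_pow, sub_eq_zero] at h0
    exact h0
  obtain ⟨g, hg, hgo⟩ := exists_mul_isometry P hu
  obtain ⟨-, α, E, hα, hE⟩ := hQ.classify_odd hd
  obtain ⟨-, α', E', hα', hE'⟩ := (algQ_nondeg P h2).classify_odd hfr
  let T : AdjoinRoot f ≃ₗ[F] V := E'.symm.trans E
  have hT : ∀ r, Q (T r) = α * α'⁻¹ * algQ P r := fun r => by
    obtain ⟨x, rfl⟩ := E'.surjective r
    rw [LinearEquiv.trans_apply, LinearEquiv.symm_apply_apply, hE, hE', mul_assoc, ← mul_assoc α'⁻¹,
      inv_mul_cancel₀ hα', one_mul]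
  have hmem : (T.symm.trans (g : AdjoinRoot f ≃ₗ[F] AdjoinRoot f)).trans T ∈ O Q := by
    intro x
    show Q (T ((g : AdjoinRoot f ≃ₗ[F] AdjoinRoot f) (T.symm x))) = Q x
    rw [hT, O.map_app, ← hT, T.apply_symm_apply]
  set z : O Q := ⟨_, hmem⟩
  have hz : ∀ r, linHom Q z (T r) = T (u * r) := fun r => by
    show T ((g : AdjoinRoot f ≃ₗ[F] AdjoinRoot f) (T.symm (T r))) = _
    have := hg 1 r
    rw [pow_one, pow_one] at this
    rw [T.symm_apply_apply, this]
  have hzp : ∀ (i : ℕ) r, (linHom Q z ^ i) (T r) = T (u ^ i * r) := by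
    intro i
    induction i with
    | zero => intro r; simp
    | succ i ih => intro r; rw [pow_succ', Module.End.mul_apply, ih, hz, ← mul_assoc, ← pow_succ']
  have hzn : ∀ (i : ℕ) r, ((linHom Q z - 1) ^ i) (T r) = T ((u - 1) ^ i * r) := by
    intro i
    induction i with
    | zero => intro r; simp
    | succ i ih =>
      intro r
      rw [pow_succ', Module.End.mul_apply, ih, LinearMap.sub_apply, hz, Module.End.one_apply, ← map_sub]
      congr 1
      ring
  refine ⟨z, ⟨2 * b + 1, O.ext_app fun x => ?_⟩, fun h0 => hne ?_⟩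
  · obtain ⟨r, rfl⟩ := T.surjective x
    rw [← linHom_apply, map_pow, hzp, hup, one_mul]
    rfl
  · have := hzn (2 * b) 1
    rw [h0, LinearMap.zero_apply, mul_one] at this
    exact T.injective (this.symm.trans (map_zero T).symm)

end Cfsg.Agent.H58.SpecNine
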