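import Cfsg.Agent.H58.SpecNine.Main

/-!
The two spectra coincide.
-/

set_option autoImplicit false
set_option linter.unusedSectionVars false
set_option linter.style.haveILetI false

namespace Cfsg.Agent.H58.SpecNine

open Module QuadraticMap Orthogonal H53 H55 Elusive

universe u v w

section Semidirect

variable {F : Type u} {V : Type v} {H : Type w} [Field F] (p : ℕ) [Fact p.Prime] [CharP F p]
  [AddCommGroup V] [Module F V] [Group H] [Finite H]
  (φ : H →* MulAut (Multiplicative V)) (L : H →* Module.End F V)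

theorem pow_left_right (hφ : ∀ h v, φ h (Multiplicative.ofAdd v) = Multiplicative.ofAdd (L h v))
    (x : Multiplicative V ⋊[φ] H) (m : ℕ) :
    (x ^ m).left = Multiplicative.ofAdd ((∑ i ∈ Finset.range m, L x.right ^ i) (Multiplicative.toAdd x.left)) ∧
      (x ^ m).right = x.right ^ m := by
  induction m with
  | zero => simp
  | succ m ih =>
    refine ⟨?_, by rw [pow_succ, SemidirectProduct.mul_right, ih.2, pow_succ]⟩
    rw [pow_succ, SemidirectProduct.mul_left, ih.1, ih.2, ← ofAdd_toAdd x.left, hφ, ← ofAdd_add,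
      toAdd_ofAdd, Finset.sum_range_succ, LinearMap.add_apply, map_pow]

include p in
theorem orderOf_semidirect (hφ : ∀ h v, φ h (Multiplicative.ofAdd v) = Multiplicative.ofAdd (L h v))
    (x : Multiplicative V ⋊[φ] H) :
    ((∑ i ∈ Finset.range (orderOf x.right), L x.right ^ i) (Multiplicative.toAdd x.left) = 0 ∧
      orderOf x = orderOf x.right) ∨
    ((∑ i ∈ Finset.range (orderOf x.right), L x.right ^ i) (Multiplicative.toAdd x.left) ≠ 0 ∧
      orderOf x = orderOf x.right * p) := by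
  have hd : orderOf x.right ∣ orderOf x := orderOf_map_dvd (SemidirectProduct.rightHom : _ →* H) x
  set o := orderOf x.right
  obtain ⟨hl, hr⟩ := pow_left_right φ L hφ x o
  rw [pow_orderOf_eq_one] at hr
  set S := (∑ i ∈ Finset.range o, L x.right ^ i) (Multiplicative.toAdd x.left)
  by_cases hS : S = 0
  · refine Or.inl ⟨hS, Nat.dvd_antisymm (orderOf_dvd_of_pow_eq_one ?_) hd⟩
    exact SemidirectProduct.ext (by rw [hl, hS]; rfl) hr
  · refine Or.inr ⟨hS, ?_⟩
    have hy : x ^ o = SemidirectProduct.inl (Multiplicative.ofAdd S) :=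
      SemidirectProduct.ext (by rw [hl, SemidirectProduct.left_inl]) (by rw [hr, SemidirectProduct.right_inl])
    have hyo : orderOf (x ^ o) = p := by
      rw [hy, orderOf_injective _ SemidirectProduct.inl_injective]
      refine orderOf_eq_prime ?_ ?_
      · rw [← ofAdd_nsmul, ← Nat.cast_smul_eq_nsmul F, CharP.cast_eq_zero, zero_smul, ofAdd_zero]
      · exact fun h => hS (ofAdd_eq_one.1 h)
    have ho0 : o ≠ 0 := (orderOf_pos x.right).ne'
    rw [orderOf_pow_of_dvd ho0 hd] at hyo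
    rw [← hyo, Nat.mul_div_cancel' hd]

theorem mem_range_of_dvd {G : Type*} [Group G] {n : ℕ} (y : G) (hy : orderOf y ≠ 0) (h : n ∣ orderOf y) :
    n ∈ Set.range (orderOf : G → ℕ) := by
  have hn : n ≠ 0 := fun e => hy (Nat.eq_zero_of_zero_dvd (e ▸ h))
  refine ⟨y ^ (orderOf y / n), ?_⟩
  rw [orderOf_pow_of_dvd (Nat.div_ne_zero_iff.2 ⟨hn, Nat.le_of_dvd (Nat.pos_of_ne_zero hy) h⟩)
    (Nat.div_dvd_of_dvd h), Nat.div_div_self h hy]

end Semidirect

section Scale

variable {F : Type u} [Field F]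

theorem O_smul {V : Type v} [AddCommGroup V] [Module F V] (Q : QuadraticForm F V) {c : F} (hc : c ≠ 0) :
    O (c • Q) = O Q := by
  ext g
  refine ⟨fun h x => ?_, fun h x => ?_⟩
  · exact mul_left_cancel₀ hc (h x)
  · show c * Q (g x) = c * Q x
    rw [h x]

/-- Orthogonal groups of two odd-dimensional forms of the same rank. -/
theorem exists_oddIso [Finite F] {V : Type v} [AddCommGroup V] [Module F V] [FiniteDimensional F V]
    {Q : QuadraticForm F V} (hQ : Nondeg Q) {m : ℕ} (hn : finrank F V = 2 * m + 1) :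
    Nonempty (O Q ≃* O (formOdd F m)) := by
  obtain ⟨-, α, E, hα, hE⟩ := hQ.classify_odd hn
  exact ⟨((congrO E (Q := α • formOdd F m) (Q' := Q) hE).symm).trans (MulEquiv.subgroupCongr (O_smul _ hα))⟩

theorem iso_mem_commutator {G G' : Type*} [Group G] [Group G'] (e : G ≃* G') {g : G}
    (hg : g ∈ commutator G) : e g ∈ commutator G' :=
  Subgroup.commutator_mono le_top le_top
    (Subgroup.map_commutator ⊤ ⊤ e.toMonoidHom ▸ Subgroup.mem_map_of_mem _ hg)

end Scale

theorem isospectral {F : Type u} [Field F] [Fintype F] (hF : Odd (Fintype.card F)) (a b : F)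
    (hab : ∀ z₁ z₂ : F, z₁ ^ 2 + a * z₁ * z₂ + b * z₂ ^ 2 = 0 → z₁ = 0 ∧ z₂ = 0)
    (φ : Cfsg.Omega F (Cfsg.quadFormMinus 3 F a b) →* MulAut (Multiplicative (((Fin 3 ⊕ Fin 3) ⊕ Fin 2) → F)))
    (hφ : ∀ h v, φ h (Multiplicative.ofAdd v) = Multiplicative.ofAdd
      ((((h : Cfsg.isometryGroup F (Cfsg.quadFormMinus 3 F a b)) :
        Matrix.GeneralLinearGroup ((Fin 3 ⊕ Fin 3) ⊕ Fin 2) F) :
        Matrix ((Fin 3 ⊕ Fin 3) ⊕ Fin 2) ((Fin 3 ⊕ Fin 3) ⊕ Fin 2) F).mulVec v)) :
    Set.range (orderOf : Cfsg.POmega F (Cfsg.quadFormOdd 4 F) → ℕ) =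
      Set.range (orderOf : Multiplicative (((Fin 3 ⊕ Fin 3) ⊕ Fin 2) → F) ⋊[φ]
        ↥(Cfsg.Omega F (Cfsg.quadFormMinus 3 F a b)) → ℕ) := by
  have hFn : Odd (Nat.card F) := by rwa [Nat.card_eq_fintype_card]
  have h2 : (2 : F) ≠ 0 := two_ne_zero_of_odd_card hFn
  haveI : Fact (ringChar F).Prime := ⟨(FiniteField.card F (ringChar F)).choose_spec.1⟩
  set p := ringChar F
  set Q8 := formMinus F 3 a b
  have hQ8 : Nondeg Q8 := formMinus_nondeg 3 hab
  have hd8 : finrank F (((Fin 3 ⊕ Fin 3) ⊕ Fin 2) → F) = 8 := by simp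
  have hd9 : finrank F (Unit ⊕ (Fin 4 ⊕ Fin 4) → F) = 9 := by simp
  have hs : sg Q8 = -1 := sg_eq hQ8 (m := 4) (by omega) (H68.EvenOrtho.sign_formMinus 3 hab)
  let ι8 : Cfsg.Omega F (Cfsg.quadFormMinus 3 F a b) →* O Q8 :=
    (toO Q8).toMonoidHom.comp (Cfsg.Omega F (Cfsg.quadFormMinus 3 F a b)).subtype
  let L := (linHom Q8).comp ι8
  have hL : ∀ h v, φ h (Multiplicative.ofAdd v) = Multiplicative.ofAdd (L h v) := fun h v => by
    rw [hφ]; rfl
  have hι : Function.Injective ι8 := (toO Q8).injective.comp Subtype.val_injective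
  have hord8 : ∀ h, orderOf (ι8 h) = orderOf h := orderOf_injective _ hι
  have hosum : ∀ h, osum (ι8 h) = ∑ i ∈ Finset.range (orderOf h), L h ^ i := fun h => by
    rw [osum, hord8]; rfl
  have nine : ∀ z : Cfsg.Omega F (Cfsg.quadFormOdd 4 F),
      orderOf (QuotientGroup.mk' (Subgroup.center (Cfsg.Omega F (Cfsg.quadFormOdd 4 F))) z) =
        orderOf (toOdd F 4 z.1) := fun z => by
    rw [orderOf_pomega_mk h2 (by norm_num), MulEquiv.orderOf_eq, Subgroup.orderOf_coe]
  ext n
  constructor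
  · rintro ⟨y, rfl⟩
    obtain ⟨z, rfl⟩ := QuotientGroup.mk'_surjective _ y
    rw [nine]
    obtain ⟨h, hh, hor⟩ := affine_of_nine p (formOdd_nondeg F 4 h2) hQ8 hFn hd8 hs hd9 (toOdd F 4 z.1)
      ((mem_omega_odd z.1).1 z.2)
    let h' : Cfsg.Omega F (Cfsg.quadFormMinus 3 F a b) :=
      ⟨(toO Q8).symm h, (mem_omega_iff Q8 _).2 (by rwa [MulEquiv.apply_symm_apply])⟩
    have hh' : ι8 h' = h := (toO Q8).apply_symm_apply h
    rcases hor with hor | ⟨x, hx, hor⟩
    · refine mem_range_of_dvd (SemidirectProduct.inr h') ?_ ?_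
      · rw [orderOf_injective _ SemidirectProduct.inr_injective]; exact (orderOf_pos h').ne'
      · rwa [orderOf_injective _ SemidirectProduct.inr_injective, ← hord8, hh']
    · set X : Multiplicative (((Fin 3 ⊕ Fin 3) ⊕ Fin 2) → F) ⋊[φ] _ := ⟨Multiplicative.ofAdd x, h'⟩
      rcases orderOf_semidirect p φ L hL X with ⟨h0, -⟩ | ⟨-, ho⟩
      · exact absurd (by rw [← hh', hosum]; exact h0) hx
      · have hX : orderOf X = orderOf h * p := by rw [ho, ← hh', hord8]
        refine mem_range_of_dvd X ?_ (hX ▸ hor)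
        rw [ho]
        exact mul_ne_zero (orderOf_pos _).ne' (Fact.out : p.Prime).ne_zero
  · rintro ⟨X, rfl⟩
    set Q9 := QuadraticMap.prod Q8 (QuadraticMap.sq : QuadraticForm F F)
    have hsq : Nondeg (QuadraticMap.sq : QuadraticForm F F) := fun z hz => by
      have := hz 1
      simp [polar] at this
      exact (mul_eq_zero.1 (show (2 : F) * z = 0 by linear_combination this)).resolve_left h2
    have h9 : Nondeg Q9 := prod_nondeg hQ8 hsq
    obtain ⟨Ψ⟩ := exists_oddIso h9 (m := 4) (by rw [Module.finrank_prod, hd8, Module.finrank_self])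
    have hmem : ι8 X.right ∈ commutator (O Q8) := (mem_omega_iff Q8 _).1 X.right.2
    obtain ⟨y, hy, hdy⟩ : ∃ y ∈ commutator (O Q9), orderOf X ∣ orderOf y := by
      rcases orderOf_semidirect p φ L hL X with ⟨-, ho⟩ | ⟨h0, ho⟩
      · refine ⟨pairO Q8 _ (ι8 X.right, 1), pairO_left_mem hQ8 hsq h2 hmem, ?_⟩
        rw [orderOf_injective _ pairO_injective, Prod.orderOf, orderOf_one, Nat.lcm_one_right, hord8, ho]
      · obtain ⟨y, hy, hdy⟩ := nine_of_affine p hQ8 hFn hd8 (ι8 X.right) hmem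
          (Multiplicative.toAdd X.left) (by rw [hosum]; exact h0)
        exact ⟨y, hy, by rwa [ho, ← hord8]⟩
    let z : Cfsg.Omega F (Cfsg.quadFormOdd 4 F) := ⟨(toOdd F 4).symm (Ψ y),
      (mem_omega_odd _).2 (by rw [MulEquiv.apply_symm_apply]; exact iso_mem_commutator Ψ hy)⟩
    have hz : orderOf (QuotientGroup.mk' (Subgroup.center (Cfsg.Omega F (Cfsg.quadFormOdd 4 F))) z) =
        orderOf y := by
      rw [nine, MulEquiv.apply_symm_apply, MulEquiv.orderOf_eq]
    exact mem_range_of_dvd _ (orderOf_pos _).ne' (hz ▸ hdy)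

end Cfsg.Agent.H58.SpecNine
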