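import Cfsg.Agent.H58.SpecNine.Arith
import Cfsg.Agent.H58.SpecNine.Prod
import Cfsg.Agent.H55.OrthAlg

/-!
Semisimple elements of eight-dimensional minus type with prescribed fixed spaces.
-/

set_option autoImplicit false
set_option linter.unusedSectionVars false
set_option linter.style.haveILetI false

namespace Cfsg.Agent.H58.SpecNine

open Module QuadraticMap Orthogonal H68.EvenOrtho H53 Elusive H55

universe u v

variable {F : Type u} [Field F]

section Alg

variable [Finite F] {R : Type v} [CommRing R] [Algebra F R] [FiniteDimensional F R]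

/-- The form of an algebra with involution. -/
noncomputable def algQ (P : OrthAlg F R) : QuadraticForm F R := LinearMap.BilinMap.toQuadraticMap P.bil

theorem algQ_app (P : OrthAlg F R) (a : R) : algQ P a = P.φ (a * P.σ a) := rfl

theorem algQ_nondeg (P : OrthAlg F R) (h2 : (2 : F) ≠ 0) : Nondeg (algQ P) := by
  intro x hx
  refine P.nondeg x fun b => ?_
  have h := hx (P.σ b)
  rw [algQ, LinearMap.BilinMap.polar_toQuadraticMap] at h
  change P.φ (x * P.σ (P.σ b)) + P.φ (P.σ b * P.σ x) = 0 at h
  rw [P.inv, ← map_mul P.σ, P.even, mul_comm b] at h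
  exact (mul_eq_zero.1 (show (2 : F) * P.φ (x * b) = 0 by linear_combination h)).resolve_left h2

/-- Multiplication by a unitary element. -/
theorem exists_mul_isometry (P : OrthAlg F R) {u : R} (hu : u * P.σ u = 1) :
    ∃ g : O (algQ P), (∀ (i : ℕ) (x : R), ((g ^ i : O (algQ P)) : R ≃ₗ[F] R) x = u ^ i * x) ∧
      orderOf g = orderOf u := by
  have hunit : P.σ u * u = 1 := by rw [mul_comm, hu]
  let g0 : R ≃ₗ[F] R :=
    LinearEquiv.ofLinearMap (LinearMap.mulLeft F u) (LinearMap.mulLeft F (P.σ u))
      (LinearMap.ext fun v => by simp [← mul_assoc, hu])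
      (LinearMap.ext fun v => by simp [← mul_assoc, hunit])
  have hg0 : ∀ v, g0 v = u * v := fun v => rfl
  have hmem : g0 ∈ O (algQ P) := by
    intro x
    rw [algQ_app, algQ_app, hg0, map_mul P.σ]
    congr 1
    linear_combination (x * P.σ x) * hu
  refine ⟨⟨g0, hmem⟩, ?_⟩
  set g : O (algQ P) := ⟨g0, hmem⟩
  have hpow : ∀ (i : ℕ) (x : R), ((g ^ i : O (algQ P)) : R ≃ₗ[F] R) x = u ^ i * x := by
    intro i
    induction i with
    | zero => intro x; rw [pow_zero, pow_zero, one_mul]; rfl
    | succ i ih =>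
      intro x
      rw [pow_succ', Subgroup.coe_mul, mul_app, ih]
      show g0 _ = _
      rw [hg0, pow_succ', mul_assoc]
  refine ⟨hpow, orderOf_eq_orderOf_iff.2 fun n => ⟨fun h => ?_, fun h => ?_⟩⟩
  · have := hpow n 1
    rw [h, mul_one] at this
    exact this.symm
  · exact O.ext_app fun x => by rw [hpow, h, one_mul]; rfl

end Alg

variable [Finite F] (p : ℕ) [Fact p.Prime] [CharP F p]

/-- A space with a free isometry generating a maximal torus. -/
structure Block (F : Type u) [Field F] [Finite F] (h : ℕ) (e : ℤ) : Type (max u 1) where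
  U : Type
  [grp : AddCommGroup U]
  [mod : Module F U]
  [fin : FiniteDimensional F U]
  Q : QuadraticForm F U
  nondeg : Nondeg Q
  dim : finrank F U = 2 * h
  sign : sg Q = e
  g : O Q
  free : Free g
  order : orderOf g = tt (Nat.card F) h e

attribute [instance] Block.grp Block.mod Block.fin

include p in
theorem exists_block (hF : Odd (Nat.card F)) {h : ℕ} (hh : 1 ≤ h) {e : ℤ} (he : e = 1 ∨ e = -1) :
    Nonempty (Block F h e) := by
  cases nonempty_fintype F
  have h2 := two_ne_zero_of_odd_card hF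
  have hq : 1 < Nat.card F := Finite.one_lt_card
  have hqh : 1 < Nat.card F ^ h := Nat.one_lt_pow (by omega) hq
  have key : ∀ (K : Type) [Field K] [Algebra F K] [FiniteDimensional F K] (x : K),
      (∀ c, Algebra.trace F K (x * c) = 0) → x = 0 := fun K _ _ _ x hx =>
    (traceForm_nondegenerate F K).1 x (fun c => by rw [Algebra.traceForm_apply]; exact hx c)
  have hqT : ∀ f : ℤ, ((tt (Nat.card F) h f : ℕ) : F) ≠ 0 := by
    intro f
    have h0 : ((Nat.card F : ℕ) : F) ^ h = 0 := by
      rw [Nat.card_eq_fintype_card, FiniteField.cast_card_eq_zero, zero_pow (by omega)]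
    unfold tt
    split_ifs
    · rw [Nat.cast_sub (by omega), Nat.cast_pow, h0]; simp
    · rw [Nat.cast_add, Nat.cast_pow, h0]; simp
  rcases he with rfl | rfl
  · have : NeZero h := ⟨by omega⟩
    set K := FiniteField.Extension F p h
    obtain ⟨w, hw⟩ := IsCyclic.exists_ofOrder_eq_natCard (α := Kˣ)
    rw [Nat.card_units, FiniteField.natCard_extension] at hw
    let P : OrthAlg F (K × K) :=
      { σ := (AlgHom.snd F K K).prod (AlgHom.fst F K K)
        φ := (Algebra.trace F K).comp (LinearMap.fst F K K) +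
          (Algebra.trace F K).comp (LinearMap.snd F K K)
        inv := fun a => rfl
        even := fun a => by simp [add_comm]
        nondeg := by
          rintro ⟨a, b⟩ h
          exact Prod.ext (key K a fun c => by simpa using h (c, 0))
            (key K b fun c => by simpa using h (0, c)) }
    set u : K × K := ((w : K), ((w⁻¹ : Kˣ) : K))
    obtain ⟨g, hg, hgo⟩ := exists_mul_isometry P (u := u)
      (by show ((w : K), ((w⁻¹ : Kˣ) : K)) * (((w⁻¹ : Kˣ) : K), (w : K)) = 1; simp)
    have hord : orderOf g = tt (Nat.card F) h 1 := by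
      rw [hgo, Prod.orderOf, orderOf_units, orderOf_units, orderOf_inv, Nat.lcm_self, hw]
      exact (if_pos rfl).symm
    refine ⟨⟨K × K, algQ P, algQ_nondeg P h2,
      by rw [Module.finrank_prod, FiniteField.finrank_extension]; ring, ?_, g, ?_, hord⟩⟩
    · refine (sg_eq_one_iff (algQ_nondeg P h2)
        (m := h) (by rw [Module.finrank_prod, FiniteField.finrank_extension]; ring)).2
        ⟨LinearMap.range (LinearMap.inl F K K), ?_, ?_⟩
      · rintro - ⟨a, rfl⟩
        simp [algQ_app, P]
      · rw [← (LinearEquiv.ofInjective _ LinearMap.inl_injective).finrank_eq, FiniteField.finrank_extension]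
    · intro i x hx
      by_cases hi : w ^ i = 1
      · right
        refine O.ext_app fun y => ?_
        rw [hg]
        have : u ^ i = 1 := Prod.ext (by simp [u, ← Units.val_pow_eq_pow_val, hi]) (by simp [u, ← Units.val_pow_eq_pow_val, inv_pow, hi])
        rw [this, one_mul]; rfl
      · left
        rw [hg] at hx
        have e1 : ((w ^ i : Kˣ) : K) * x.1 = x.1 := by simpa [u] using congrArg Prod.fst hx
        have e2 : (((w ^ i)⁻¹ : Kˣ) : K) * x.2 = x.2 := by simpa [u, inv_pow] using congrArg Prod.snd hx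
        refine Prod.ext (by_contra fun h0 => hi (Units.ext ((mul_eq_right₀ h0).1 e1))) ?_
        exact by_contra fun h0 => hi (inv_eq_one.1 (Units.ext ((mul_eq_right₀ h0).1 e2)))
  · have : NeZero (2 * h) := ⟨by omega⟩
    set K := FiniteField.Extension F p (2 * h)
    have hK : Nat.card K = Nat.card F ^ (2 * h) := FiniteField.natCard_extension F p (2 * h)
    let σ : K ≃ₐ[F] K := FiniteField.Extension.frob F p (2 * h) ^ h
    have hσ : ∀ x, σ x = x ^ (Nat.card F ^ h) := fun x =>
      FiniteField.Extension.frob_iterate_apply F p (2 * h) h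
    let P : OrthAlg F K :=
      { σ := σ.toAlgHom
        φ := Algebra.trace F K
        inv := fun x => by
          have : Fintype K := Fintype.ofFinite _
          show σ (σ x) = x
          rw [hσ, hσ, ← pow_mul, ← pow_add, ← two_mul, ← hK, Nat.card_eq_fintype_card,
            FiniteField.pow_card]
        even := fun a => Algebra.trace_eq_of_algEquiv σ a
        nondeg := key K }
    have hNq : (Nat.card F ^ h - 1) * (Nat.card F ^ h + 1) = Nat.card F ^ (2 * h) - 1 := by
      rw [mul_comm, pow_mul']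
      simpa using (Nat.sq_sub_sq (Nat.card F ^ h) 1).symm
    obtain ⟨w, hw⟩ := IsCyclic.exists_ofOrder_eq_natCard (α := Kˣ)
    rw [Nat.card_units, hK] at hw
    set u : K := (w : K) ^ (Nat.card F ^ h - 1)
    have hord : orderOf u = Nat.card F ^ h + 1 := by
      rw [orderOf_pow_of_dvd (by omega) (by rw [orderOf_units, hw, ← hNq]; exact dvd_mul_right _ _),
        orderOf_units, hw, ← hNq, Nat.mul_div_cancel_left _ (by omega)]
    obtain ⟨g, hg, hgo⟩ := exists_mul_isometry P (u := u)
      (by show _ * σ _ = 1; rw [hσ, ← pow_succ', ← hord, pow_orderOf_eq_one])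
    have hgord : orderOf g = tt (Nat.card F) h (-1) := by
      rw [hgo, hord]; exact (if_neg (by decide)).symm
    have hfree : Free g := by
      intro i x hx
      rw [hg] at hx
      rcases eq_or_ne x 0 with h0 | h0
      · exact Or.inl h0
      · exact Or.inr (O.ext_app fun y => by rw [hg, (mul_eq_right₀ h0).1 hx, one_mul]; rfl)
    refine ⟨⟨K, algQ P, algQ_nondeg P h2, FiniteField.finrank_extension F p (2 * h), ?_, g, hfree, hgord⟩⟩
    refine (sg_or (algQ P)).resolve_left fun h1 => ?_
    have hd := hfree.dvd_tt (algQ_nondeg P h2) hh (FiniteField.finrank_extension F p (2 * h))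
      (by rw [hgord]; exact hqT _)
    rw [hgord, h1] at hd
    unfold tt at hd
    rw [if_neg (by decide), if_pos rfl] at hd
    have := Nat.le_of_dvd (by omega) hd
    omega

namespace Block

variable {p} {h : ℕ} {e : ℤ}

theorem cast_order (B : Block F h e) (hh : 1 ≤ h) : ((orderOf B.g : ℕ) : F) ≠ 0 := by
  cases nonempty_fintype F
  have h0 : ((Nat.card F : ℕ) : F) ^ h = 0 := by
    rw [Nat.card_eq_fintype_card, FiniteField.cast_card_eq_zero, zero_pow (by omega)]
  rw [B.order]
  unfold tt
  split_ifs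
  · rw [Nat.cast_sub (Nat.one_le_pow _ _ Nat.card_pos), Nat.cast_pow, h0]; simp
  · rw [Nat.cast_add, Nat.cast_pow, h0]; simp

theorem det_one (B : Block F h e) (hF : Odd (Nat.card F)) (hh : 1 ≤ h) :
    detSign B.Q B.nondeg (two_ne_zero_of_odd_card hF) B.g = 1 := by
  refine (detSign_eq_one_iff _ _ _).2 ?_
  show LinearMap.det (linHom B.Q B.g) = 1
  have hne : B.g ≠ 1 := fun h1 => by
    have := B.order
    rw [h1, orderOf_one] at this
    obtain ⟨k, hk⟩ := even_tt hF h e
    omega
  have hfix : ∀ x, (B.g : B.U ≃ₗ[F] B.U) x = x → x = 0 := fun x hx =>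
    (B.free 1 x (by rwa [pow_one])).resolve_right (by rwa [pow_one])
  have h1 := det_mul_det_one_sub B.nondeg B.g
  rw [B.dim, (even_two_mul h).neg_one_pow] at h1
  refine mul_right_cancel₀ (fun h0 => ?_) h1
  obtain ⟨v, hv, hv0⟩ := Submodule.exists_mem_ne_zero_of_ne_bot (LinearMap.bot_lt_ker_of_det_eq_zero h0).ne'
  refine hv0 (hfix v ?_)
  rw [LinearMap.mem_ker, LinearMap.sub_apply, Module.End.one_apply, sub_eq_zero] at hv
  exact hv.symm

theorem spinor_eq (B : Block F h e) (hF : Odd (Nat.card F)) (hh : 1 ≤ h) :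
    spinor B.Q B.nondeg (two_ne_zero_of_odd_card hF) B.g = -1 := by
  refine (Int.units_eq_one_or _).resolve_left fun h1 => ?_
  have hd := B.free.dvd_half B.nondeg hF hh B.dim (B.cast_order hh)
    ((mem_commutator_iff _ (two_ne_zero_of_odd_card hF) _).2 ⟨B.det_one hF hh, h1⟩)
  rw [B.sign, B.order] at hd
  obtain ⟨k, hk⟩ := even_tt hF h e
  have hpos : 0 < k := by
    unfold tt at hk
    have : 1 < Nat.card F ^ h := Nat.one_lt_pow (by omega) Finite.one_lt_card
    split_ifs at hk <;> omega
  have := Nat.le_of_dvd (by omega) hd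
  omega

theorem orderOf_sq (B : Block F h e) (hF : Odd (Nat.card F)) : orderOf (B.g ^ 2) = tt (Nat.card F) h e / 2 := by
  rw [orderOf_pow_of_dvd two_ne_zero (by rw [B.order]; exact (even_tt hF h e).two_dvd), B.order]

end Block

/-- The conclusion: an element with a large fixed space. -/
def Wit {U : Type*} [AddCommGroup U] [Module F U] [FiniteDimensional F U] (Q : QuadraticForm F U)
    (H n : ℕ) : Prop :=
  ∃ t ∈ commutator (O Q), n ∣ orderOf t ∧ (orderOf t : F) ≠ 0 ∧ ∃ (C : Submodule F U) (c : ℕ),
    Nondeg (restr Q C) ∧ finrank F C = 2 * c ∧ 4 ≤ H + c ∧ ∀ x ∈ C, (t : U ≃ₗ[F] U) x = x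

theorem Wit.congr {U U' : Type*} [AddCommGroup U] [Module F U] [FiniteDimensional F U] [AddCommGroup U']
    [Module F U'] [FiniteDimensional F U'] {Q : QuadraticForm F U} {Q' : QuadraticForm F U'} {H n : ℕ}
    (E : U ≃ₗ[F] U') (hE : ∀ x, Q' (E x) = Q x) (hw : Wit Q H n) : Wit Q' H n := by
  obtain ⟨t, ht, hn, hp, C, c, hC, hd, hc, hfix⟩ := hw
  refine ⟨congrO E hE t, congrO_mem_commutator E hE ht, by rwa [MulEquiv.orderOf_eq], by rwa [MulEquiv.orderOf_eq],
    C.map (E : U →ₗ[F] U'), c, ?_, by rw [LinearEquiv.finrank_map_eq]; exact hd, hc, ?_⟩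
  · intro x hx
    obtain ⟨y, hy, hxy⟩ := x.2
    have : (⟨y, hy⟩ : C) = 0 := hC _ fun z => by
      have h1 := hx ⟨E z, ⟨z, z.2, rfl⟩⟩
      rw [polar_restr] at h1 ⊢
      rw [← hxy] at h1
      simp only [LinearEquiv.coe_coe, polar, ← map_add, hE] at h1 ⊢
      exact h1
    apply Subtype.ext
    rw [← hxy, show y = 0 from congrArg Subtype.val this, map_zero]
    rfl
  · rintro - ⟨y, hy, rfl⟩
    simp [congrO_apply, hfix y hy]

theorem exists_pad {U : Type} [AddCommGroup U] [Module F U] [FiniteDimensional F U] {Q : QuadraticForm F U}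
    (hQ : Nondeg Q) (hF : Odd (Nat.card F)) {m : ℕ} (hm : finrank F U = 2 * m) {t : O Q}
    (ht : t ∈ commutator (O Q)) {H n : ℕ} (hn : n ∣ orderOf t) (hp : (orderOf t : F) ≠ 0) (hmH : m ≤ H)
    {c : ℕ} {e : ℤ} (hmc : m + c = 4) (B : Block F c e) (hse : sg Q * e = -1) :
    ∃ (U' : Type) (_ : AddCommGroup U') (_ : Module F U') (_ : FiniteDimensional F U')
      (Q' : QuadraticForm F U'), Nondeg Q' ∧ finrank F U' = 8 ∧ sg Q' = -1 ∧ Wit Q' H n := by
  have h2 := two_ne_zero_of_odd_card hF
  refine ⟨U × B.U, inferInstance, inferInstance, inferInstance, QuadraticMap.prod Q B.Q,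
    prod_nondeg hQ B.nondeg, by rw [Module.finrank_prod, hm, B.dim]; omega,
    by rw [sg_prod hQ B.nondeg (hm ▸ even_two_mul m) (B.dim ▸ even_two_mul c), B.sign, hse],
    pairO Q B.Q (t, 1), pairO_left_mem hQ B.nondeg h2 ht, ?_, ?_, LinearMap.range (LinearMap.inr F U B.U), c, ?_,
    ?_, by omega, ?_⟩
  · rwa [orderOf_injective _ pairO_injective, Prod.orderOf, orderOf_one, Nat.lcm_one_right]
  · rwa [orderOf_injective _ pairO_injective, Prod.orderOf, orderOf_one, Nat.lcm_one_right]
  · intro x hx
    obtain ⟨b, hb⟩ := x.2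
    have : b = 0 := B.nondeg b fun b' => by
      have := hx ⟨(0, b'), b', rfl⟩
      rw [polar_restr, ← hb] at this
      simpa [polar_prod] using this
    exact Subtype.ext (by rw [← hb, this]; simp)
  · rw [← (LinearEquiv.ofInjective _ LinearMap.inr_injective).finrank_eq, B.dim]
  · rintro - ⟨b, rfl⟩
    rw [pairO_app]
    simp

theorem exists_full {U : Type} [AddCommGroup U] [Module F U] [FiniteDimensional F U] {Q : QuadraticForm F U}
    (hQ : Nondeg Q) (hd : finrank F U = 8) (hs : sg Q = -1) {t : O Q} (ht : t ∈ commutator (O Q)) {H n : ℕ}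
    (hn : n ∣ orderOf t) (hp : (orderOf t : F) ≠ 0) (hH : 4 ≤ H) :
    ∃ (U' : Type) (_ : AddCommGroup U') (_ : Module F U') (_ : FiniteDimensional F U')
      (Q' : QuadraticForm F U'), Nondeg Q' ∧ finrank F U' = 8 ∧ sg Q' = -1 ∧ Wit Q' H n :=
  ⟨U, inferInstance, inferInstance, inferInstance, Q, hQ, hd, hs, t, ht, hn, hp, ⊥, 0, nondeg_bot,
    finrank_bot F U, by omega, fun x hx => by rw [(Submodule.mem_bot F).1 hx, map_zero]⟩

include p in
/-- The witness. -/
theorem exists_wit (hF : Odd (Nat.card F)) {V : Type v} [AddCommGroup V] [Module F V] [FiniteDimensional F V]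
    {Q : QuadraticForm F V} (hQ : Nondeg Q) (hd : finrank F V = 8) (hs : sg Q = -1) {H n : ℕ}
    (hH4 : H ≤ 4) (hG : Good (Nat.card F) H n) : Wit Q H n := by
  have h2 := two_ne_zero_of_odd_card hF
  rcases hG with h1 | hG
  · refine ⟨1, one_mem _, ?_, by simp, ⊤, 4, ?_, by rw [finrank_top, hd], by omega, fun x _ => rfl⟩
    · rw [orderOf_one]; exact h1
    · intro x hx
      refine Subtype.ext (hQ _ fun y => ?_)
      have := hx ⟨y, trivial⟩
      rwa [polar_restr] at this
  obtain ⟨U, _, _, _, Q', hQ', hd', hs', hw⟩ :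
      ∃ (U' : Type) (_ : AddCommGroup U') (_ : Module F U') (_ : FiniteDimensional F U')
        (Q' : QuadraticForm F U'), Nondeg Q' ∧ finrank F U' = 8 ∧ sg Q' = -1 ∧ Wit Q' H n := by
    rcases hG with ⟨a, e, b, f, ha, he, hb, hf, hab, hor, hn⟩ | ⟨a, e, ha, he, haH, hor, hn⟩
    · obtain ⟨A⟩ := exists_block p hF ha he
      obtain ⟨B⟩ := exists_block p hF hb hf
      have ht : pairO A.Q B.Q (A.g, B.g) ∈ commutator (O (QuadraticMap.prod A.Q B.Q)) :=
        pairO_mem_commutator A.nondeg B.nondeg h2 (by simp [A.det_one hF ha, B.det_one hF hb])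
          (by simp [A.spinor_eq hF ha, B.spinor_eq hF hb])
      have hord : orderOf (pairO A.Q B.Q (A.g, B.g)) = Nat.lcm (orderOf A.g) (orderOf B.g) := by
        rw [orderOf_injective _ pairO_injective, Prod.orderOf]
      have hp : (orderOf (pairO A.Q B.Q (A.g, B.g)) : F) ≠ 0 := by
        rw [hord]
        intro h0
        have := congrArg (Nat.cast : ℕ → F) (Nat.gcd_mul_lcm (orderOf A.g) (orderOf B.g))
        rw [Nat.cast_mul, Nat.cast_mul, h0, mul_zero] at this
        exact mul_ne_zero (A.cast_order ha) (B.cast_order hb) this.symm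
      have hsg : sg (QuadraticMap.prod A.Q B.Q) = e * f := by
        rw [sg_prod A.nondeg B.nondeg (A.dim ▸ even_two_mul a) (B.dim ▸ even_two_mul b), A.sign, B.sign]
      have hdim : finrank F (A.U × B.U) = 2 * (a + b) := by rw [Module.finrank_prod, A.dim, B.dim]; ring
      have hn' : n ∣ orderOf (pairO A.Q B.Q (A.g, B.g)) := by rwa [hord, A.order, B.order]
      rcases Nat.lt_or_ge (a + b) 4 with hlt | hge
      · have hef : -(e * f) = 1 ∨ -(e * f) = -1 := by
          rcases he with rfl | rfl <;> rcases hf with rfl | rfl <;> decide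
        obtain ⟨C⟩ := exists_block p hF (h := 4 - (a + b)) (by omega) hef
        exact exists_pad (prod_nondeg A.nondeg B.nondeg) hF hdim ht hn' hp hab (by omega) C
          (by rw [hsg]; rcases he with rfl | rfl <;> rcases hf with rfl | rfl <;> decide)
      · have hef : e * f = -1 := hor.resolve_left (by omega)
        rcases eq_or_lt_of_le hge with h4 | h4
        · exact exists_full (prod_nondeg A.nondeg B.nondeg) (by omega) (hsg.trans hef) ht hn' hp (by omega)
        · -- more than four cannot occur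
          exfalso
          exact absurd hab (by omega)
    · obtain ⟨A⟩ := exists_block p hF ha he
      have ht : A.g ^ 2 ∈ commutator (O A.Q) := by
        rw [mem_commutator_iff A.nondeg h2, map_pow, map_pow, Int.units_sq, Int.units_sq]; exact ⟨rfl, rfl⟩
      have hp : (orderOf (A.g ^ 2) : F) ≠ 0 := by
        intro h0
        obtain ⟨c, hc⟩ := orderOf_pow_dvd (x := A.g) 2
        exact A.cast_order ha (by rw [hc, Nat.cast_mul, h0, zero_mul])
      have hn' : n ∣ orderOf (A.g ^ 2) := by rwa [A.orderOf_sq hF]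
      rcases Nat.lt_or_ge a 4 with hlt | hge
      · obtain ⟨C⟩ := exists_block p hF (h := 4 - a) (by omega) (e := -e) (by rcases he with rfl | rfl <;> decide)
        exact exists_pad A.nondeg hF A.dim ht hn' hp haH (by omega) C
          (by rw [A.sign]; rcases he with rfl | rfl <;> decide)
      · have hef : e = -1 := hor.resolve_left (by omega)
        rcases eq_or_lt_of_le hge with h4 | h4
        · exact exists_full A.nondeg (by rw [A.dim]; omega) (A.sign.trans hef) ht hn' hp (by omega)
        · exfalso; omega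
  obtain ⟨E, hE⟩ := exists_isometry (k := 3) hQ hQ' (by omega) (by omega)
    (hs ▸ hasSign_sg hQ (m := 4) (by omega)) (hs' ▸ hasSign_sg hQ' (m := 4) (by omega))
  exact hw.congr E hE

end Cfsg.Agent.H58.SpecNine
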